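/-
Two by two matrices as a quaternion algebra: the conjugation is the adjugate.

* `bar`, `mul_bar`, `bar_mul`
* `Basis8` : a pair of anticommuting square roots of `-1` spans the whole algebra
* `eq_zero_or_eq_zero_of_traceless` : `a x b = 0` for every `x` of trace zero forces `a = 0` or `b = 0`
-/
import Cfsg.Agent.Lib.PronormalOdd.DimTwo

set_option autoImplicit false

namespace Cfsg.Agent.PronSymp

open Matrix
open scoped MatrixGroups

variable {F : Type*} [Field F]

/-- The algebra. -/
abbrev M2 (F : Type*) : Type _ := Matrix (Fin 2) (Fin 2) F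

/-- The conjugation of the quaternion algebra. -/
def bar (a : M2 F) : M2 F := !![a 1 1, -a 0 1; -a 1 0, a 0 0]

theorem bar_eq_adjugate (a : M2 F) : bar a = a.adjugate := (Matrix.adjugate_fin_two a).symm

theorem bar_mul (a b : M2 F) : bar (a * b) = bar b * bar a := by
  simp only [bar_eq_adjugate, Matrix.adjugate_mul_distrib]

@[simp] theorem bar_bar (a : M2 F) : bar (bar a) = a := by
  ext i j; fin_cases i <;> fin_cases j <;> simp [bar]

@[simp] theorem bar_one : bar (1 : M2 F) = 1 := by
  ext i j; fin_cases i <;> fin_cases j <;> simp [bar]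

@[simp] theorem bar_zero : bar (0 : M2 F) = 0 := by
  ext i j; fin_cases i <;> fin_cases j <;> simp [bar]

theorem bar_add (a b : M2 F) : bar (a + b) = bar a + bar b := by
  ext i j; fin_cases i <;> fin_cases j <;> simp [bar] <;> abel

theorem bar_neg (a : M2 F) : bar (-a) = -bar a := by
  ext i j; fin_cases i <;> fin_cases j <;> simp [bar]

theorem bar_sub (a b : M2 F) : bar (a - b) = bar a - bar b := by
  rw [sub_eq_add_neg, bar_add, bar_neg, sub_eq_add_neg]

theorem bar_smul (r : F) (a : M2 F) : bar (r • a) = r • bar a := by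
  ext i j; fin_cases i <;> fin_cases j <;> simp [bar]

theorem bar_sum {κ : Type*} (s : Finset κ) (f : κ → M2 F) : bar (∑ k ∈ s, f k) = ∑ k ∈ s, bar (f k) :=
  map_sum ({ toFun := bar, map_zero' := bar_zero, map_add' := bar_add } : M2 F →+ M2 F) f s

theorem bar_eq_zero {a : M2 F} : bar a = 0 ↔ a = 0 :=
  ⟨fun h => by rw [← bar_bar a, h, bar_zero], fun h => by rw [h, bar_zero]⟩

theorem bar_mul_self (a : M2 F) : bar a * a = a.det • (1 : M2 F) := by
  rw [bar_eq_adjugate, Matrix.adjugate_mul]

theorem mul_bar (a : M2 F) : a * bar a = a.det • (1 : M2 F) := by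
  rw [bar_eq_adjugate, Matrix.mul_adjugate]

theorem det_bar (a : M2 F) : (bar a).det = a.det := by
  simp [bar, Matrix.det_fin_two]; ring

theorem add_bar (a : M2 F) : a + bar a = a.trace • (1 : M2 F) := by
  ext i j; fin_cases i <;> fin_cases j <;> simp [bar, Matrix.trace_fin_two] <;> abel

theorem trace_bar (a : M2 F) : (bar a).trace = a.trace := by
  simp [bar, Matrix.trace_fin_two]; ring

theorem bar_eq_neg_of_trace {a : M2 F} (h : a.trace = 0) : bar a = -a := by
  have := add_bar a
  rw [h, zero_smul] at this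
  exact eq_neg_of_add_eq_zero_right this

theorem smul_one_inj {r s : F} (h : r • (1 : M2 F) = s • 1) : r = s := by
  simpa using congrFun (congrFun h 0) 0

theorem eq_smul_one_of_bar_eq (h2 : (2 : F) ≠ 0) {a : M2 F} (h : bar a = a) :
    a = (a 0 0) • (1 : M2 F) := by
  have h01 := congrFun (congrFun h 0) 1
  have h10 := congrFun (congrFun h 1) 0
  have h00 := congrFun (congrFun h 0) 0
  simp only [bar, Matrix.of_apply, Matrix.cons_val', Matrix.cons_val_zero, Matrix.cons_val_one,
    Matrix.empty_val', Matrix.cons_val_fin_one] at h01 h10 h00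
  have e01 : a 0 1 = 0 := (mul_eq_zero.mp (by linear_combination -h01 : (2 : F) * a 0 1 = 0)).resolve_left h2
  have e10 : a 1 0 = 0 := (mul_eq_zero.mp (by linear_combination -h10 : (2 : F) * a 1 0 = 0)).resolve_left h2
  ext i j; fin_cases i <;> fin_cases j <;> simp [e01, e10, h00]

theorem det_sub_one (a : M2 F) : (a - 1).det = a.det - a.trace + 1 := by
  simp [Matrix.det_fin_two, Matrix.trace_fin_two]; ring

theorem sq_eq_smul_sub (a : M2 F) : a * a = a.trace • a - a.det • (1 : M2 F) := by
  rw [← mul_bar, eq_sub_iff_add_eq, ← mul_add, add_bar, mul_smul_comm, mul_one]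

theorem coe_inv_eq_bar (g : SL(2, F)) : ((g⁻¹ : SL(2, F)) : M2 F) = bar (g : M2 F) := by
  rw [bar_eq_adjugate, Matrix.SpecialLinearGroup.coe_inv]

theorem bar_mul_coe (g : SL(2, F)) : bar (g : M2 F) * g = 1 := by
  rw [bar_mul_self, g.2, one_smul]

theorem coe_mul_bar (g : SL(2, F)) : (g : M2 F) * bar (g : M2 F) = 1 := by
  rw [mul_bar, g.2, one_smul]

theorem eq_zero_of_mul_unit {a b : M2 F} (hb : b.det ≠ 0) (h : a * b = 0) : a = 0 := by
  have := congrArg (· * bar b) h
  simp only [mul_assoc, mul_bar, mul_smul_comm, mul_one, zero_mul, smul_eq_zero] at this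
  exact this.resolve_left hb

theorem eq_zero_of_unit_mul {a b : M2 F} (ha : a.det ≠ 0) (h : a * b = 0) : b = 0 := by
  have := congrArg (bar a * ·) h
  simp only [← mul_assoc, bar_mul_self, smul_mul_assoc, one_mul, mul_zero, smul_eq_zero] at this
  exact this.resolve_left ha

/-- Every nonzero value is a determinant. -/
theorem exists_det_eq (r : F) : ∃ a : M2 F, a.det = r :=
  ⟨!![r, 0; 0, 1], by simp [Matrix.det_fin_two]⟩

/-- A singular matrix is a column times a row. -/
theorem exists_rank_one {N : M2 F} (h : N.det = 0) : ∃ p r : Fin 2 → F, N = vecMulVec p r := by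
  by_cases h0 : N = 0
  · exact ⟨0, 0, by rw [h0]; ext i j; simp [vecMulVec_apply]⟩
  rw [Matrix.det_fin_two] at h
  obtain ⟨a, b, hab⟩ : ∃ a b, N a b ≠ 0 := by
    by_contra hc
    push Not at hc
    exact h0 (Matrix.ext hc)
  refine ⟨fun i => N i b, fun j => N a j / N a b, ?_⟩
  ext i j
  simp only [vecMulVec_apply]
  field_simp
  fin_cases a <;> fin_cases b <;> fin_cases i <;> fin_cases j <;>
    simp only [Fin.zero_eta, Fin.mk_one, Fin.isValue] at * <;>
    first | ring1 | linear_combination h | linear_combination -h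

/-- For a singular `N`, the products `a N b` vanish only if one side does. -/
theorem mul_mul_ne_zero {N a b c d : M2 F} (hN : N.det = 0) (h1 : a * N * b ≠ 0) (h2 : c * N * d ≠ 0) :
    a * N * d ≠ 0 := by
  obtain ⟨p, r, rfl⟩ := exists_rank_one hN
  simp only [Matrix.mul_vecMulVec, Matrix.vecMulVec_mul] at h1 h2 ⊢
  simp only [ne_eq, Matrix.vecMulVec_eq_zero, not_or] at h1 h2 ⊢
  exact ⟨h1.1, h2.2⟩

/-- A pair of anticommuting square roots of `-1`. -/
structure Basis8 (i j : SL(2, F)) : Prop where
  ii : i * i = -1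
  jj : j * j = -1
  ji : j * i = -(i * j)

namespace Basis8

variable {i j : SL(2, F)}

theorem kk (h : Basis8 i j) : i * j * (i * j) = -1 := by
  calc i * j * (i * j) = i * (j * i) * j := by group
    _ = -1 := by rw [h.ji, mul_neg, neg_mul, ← mul_assoc, h.ii, neg_one_mul, neg_mul, h.jj, neg_neg]

theorem coe_ii (h : Basis8 i j) : (i : M2 F) * i = -1 := by
  simpa using congrArg Subtype.val h.ii

theorem coe_jj (h : Basis8 i j) : (j : M2 F) * j = -1 := by
  simpa using congrArg Subtype.val h.jj

theorem coe_ji (h : Basis8 i j) : (j : M2 F) * i = -((i : M2 F) * j) := by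
  simpa using congrArg Subtype.val h.ji

theorem trace_eq_zero (h2 : (2 : F) ≠ 0) {g : SL(2, F)} (hg : g * g = -1) : (g : M2 F).trace = 0 := by
  have h := sq_eq_smul_sub (g : M2 F)
  rw [show (g : M2 F) * g = -1 by simpa using congrArg Subtype.val hg, g.2, one_smul,
    eq_sub_iff_add_eq, neg_add_cancel] at h
  rcases smul_eq_zero.mp h.symm with h' | h'
  · exact h'
  · have := g.2
    rw [h', Matrix.det_zero] at this
    exact absurd this zero_ne_one

theorem tr_i (h : Basis8 i j) (h2 : (2 : F) ≠ 0) : (i : M2 F).trace = 0 := trace_eq_zero h2 h.ii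

theorem tr_j (h : Basis8 i j) (h2 : (2 : F) ≠ 0) : (j : M2 F).trace = 0 := trace_eq_zero h2 h.jj

theorem tr_k (h : Basis8 i j) (h2 : (2 : F) ≠ 0) : ((i : M2 F) * j).trace = 0 := by
  simpa using trace_eq_zero h2 h.kk

/-- The four elements span the algebra. -/
theorem exists_combination (h : Basis8 i j) (h2 : (2 : F) ≠ 0) (a : M2 F) :
    ∃ c₀ c₁ c₂ c₃ : F, a = c₀ • (1 : M2 F) + c₁ • (i : M2 F) + c₂ • (j : M2 F) + c₃ • ((i : M2 F) * j) := by
  set v : Fin 4 → M2 F := ![1, (i : M2 F), (j : M2 F), (i : M2 F) * j] with hv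
  have hli : LinearIndependent F v := by
    rw [Fintype.linearIndependent_iff]
    intro c hc
    have hc' : c 0 • (1 : M2 F) + c 1 • (i : M2 F) + c 2 • (j : M2 F) + c 3 • ((i : M2 F) * j) = 0 := by
      simpa [hv, Fin.sum_univ_four] using hc
    have ti := h.tr_i h2
    have tj := h.tr_j h2
    have tk := h.tr_k h2
    have e0 : c 0 = 0 := by
      have := congrArg Matrix.trace hc'
      simp only [Matrix.trace_add, Matrix.trace_smul, Matrix.trace_one, ti, tj, tk, Matrix.trace_zero,
        smul_eq_mul, Fintype.card_fin, mul_zero, add_zero] at this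
      push_cast at this
      exact (mul_eq_zero.mp this).resolve_right h2
    have key : ∀ x : M2 F, (c 0 • (1 : M2 F) + c 1 • (i : M2 F) + c 2 • (j : M2 F) +
        c 3 • ((i : M2 F) * j)) * x = 0 := fun x => by rw [hc', zero_mul]
    have e1 : c 1 = 0 := by
      have h' := congrArg Matrix.trace (key (i : M2 F))
      simp only [add_mul, smul_mul_assoc, one_mul, h.coe_ii, h.coe_ji, mul_assoc, Matrix.trace_add,
        Matrix.trace_smul, Matrix.trace_neg, Matrix.trace_one, ti, tj, tk, Matrix.trace_zero, smul_eq_mul,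
        Fintype.card_fin, mul_zero, neg_zero, add_zero, zero_add, mul_neg] at h'
      simp only [← mul_assoc, h.coe_ii, neg_one_mul, Matrix.trace_neg, tj, neg_zero, mul_zero, add_zero,
        neg_eq_zero] at h'
      push_cast at h'
      exact (mul_eq_zero.mp h').resolve_right h2
    have e2 : c 2 = 0 := by
      have h' := congrArg Matrix.trace (key (j : M2 F))
      simp only [add_mul, smul_mul_assoc, one_mul, h.coe_jj, mul_assoc, Matrix.trace_add, Matrix.trace_smul,
        Matrix.trace_neg, Matrix.trace_one, ti, tj, tk, Matrix.trace_zero, smul_eq_mul, Fintype.card_fin,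
        mul_zero, neg_zero, add_zero, zero_add, mul_neg, mul_one, neg_eq_zero] at h'
      push_cast at h'
      exact (mul_eq_zero.mp h').resolve_right h2
    have e3 : c 3 = 0 := by
      rw [e0, e1, e2, zero_smul, zero_smul, zero_smul, zero_add, zero_add, zero_add, smul_eq_zero] at hc'
      refine hc'.resolve_right fun h0 => ?_
      have := (i * j).2
      rw [Matrix.SpecialLinearGroup.coe_mul, h0, Matrix.det_zero] at this
      exact zero_ne_one this
    intro k
    fin_cases k <;> assumption
  have hspan : Submodule.span F (Set.range v) = ⊤ :=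
    hli.span_eq_top_of_card_eq_finrank (by simp [Module.finrank_matrix])
  have ha : a ∈ Submodule.span F (Set.range v) := by rw [hspan]; trivial
  obtain ⟨c, hc⟩ := (Submodule.mem_span_range_iff_exists_fun F).mp ha
  exact ⟨c 0, c 1, c 2, c 3, by rw [← hc, Fin.sum_univ_four]; rfl⟩

theorem mem_center_of_commute (h : Basis8 i j) (h2 : (2 : F) ≠ 0) {g : SL(2, F)} (hi : Commute g i)
    (hj : Commute g j) : g = 1 ∨ g = -1 := by
  refine PSL2.mem_center_iff'.mp (Subgroup.mem_center_iff.mpr fun y => ?_)
  obtain ⟨c₀, c₁, c₂, c₃, hy⟩ := h.exists_combination h2 (y : M2 F)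
  have hgi : Commute (g : M2 F) i := congrArg Subtype.val hi.eq
  have hgj : Commute (g : M2 F) j := congrArg Subtype.val hj.eq
  refine Subtype.ext ?_
  show (y : M2 F) * g = g * y
  rw [hy]
  exact (((((Commute.one_right _).smul_right c₀).add_right (hgi.smul_right c₁)).add_right
    (hgj.smul_right c₂)).add_right ((hgi.mul_right hgj).smul_right c₃)).eq.symm

/-- If `a x b` vanishes on the three generators of trace zero, `a` or `b` vanishes. -/
theorem eq_zero_or_eq_zero (h : Basis8 i j) (h2 : (2 : F) ≠ 0) {a b : M2 F} (hi : a * i * b = 0)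
    (hj : a * j * b = 0) (hk : a * ((i : M2 F) * j) * b = 0) : a = 0 ∨ b = 0 := by
  have hx : ∀ x : M2 F, x.trace = 0 → a * x * b = 0 := by
    intro x hx
    obtain ⟨c₀, c₁, c₂, c₃, hc⟩ := h.exists_combination h2 x
    have h0 : c₀ = 0 := by
      have := congrArg Matrix.trace hc
      simp only [hx, Matrix.trace_add, Matrix.trace_smul, Matrix.trace_one, h.tr_i h2, h.tr_j h2, h.tr_k h2,
        smul_eq_mul, Fintype.card_fin, mul_zero, add_zero] at this
      push_cast at this
      exact (mul_eq_zero.mp this.symm).resolve_right h2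
    simp only [hc, h0, zero_smul, zero_add, mul_add, add_mul, mul_smul_comm, smul_mul_assoc, hi, hj, hk,
      smul_zero]
  by_contra hne
  push Not at hne
  obtain ⟨r, c, hrc⟩ : ∃ r c, a r c ≠ 0 := by
    by_contra hh; push Not at hh; exact hne.1 (Matrix.ext hh)
  have hE : ∀ s, b s = 0 := by
    have e12 := hx !![0, 1; 0, 0] (by simp [Matrix.trace_fin_two])
    have e21 := hx !![0, 0; 1, 0] (by simp [Matrix.trace_fin_two])
    have eD := hx !![1, 0; 0, -1] (by simp [Matrix.trace_fin_two])
    have f12 : ∀ t, a r 0 * b 1 t = 0 := fun t => by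
      simpa [Matrix.mul_apply, Fin.sum_univ_two] using congrFun (congrFun e12 r) t
    have f21 : ∀ t, a r 1 * b 0 t = 0 := fun t => by
      simpa [Matrix.mul_apply, Fin.sum_univ_two] using congrFun (congrFun e21 r) t
    have fD : ∀ t, a r 0 * b 0 t + -(a r 1 * b 1 t) = 0 := fun t => by
      simpa [Matrix.mul_apply, Fin.sum_univ_two] using congrFun (congrFun eD r) t
    intro s
    funext t
    rw [Pi.zero_apply]
    have := fD t; have := f12 t; have := f21 t
    by_cases hc0 : c = 0
    · subst hc0
      have hb1 : b 1 t = 0 := (mul_eq_zero.mp (f12 t)).resolve_left hrc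
      fin_cases s
      · refine (mul_eq_zero.mp ?_).resolve_left hrc
        simpa [hb1] using fD t
      · exact hb1
    · have hc1 : c = 1 := by omega
      subst hc1
      have hb0 : b 0 t = 0 := (mul_eq_zero.mp (f21 t)).resolve_left hrc
      fin_cases s
      · exact hb0
      · refine (mul_eq_zero.mp ?_).resolve_left hrc
        simpa [hb0] using fD t
  exact hne.2 (Matrix.ext fun s t => congrFun (hE s) t)

end Basis8

end Cfsg.Agent.PronSymp
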