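/-
The symplectic group as the unitary group over the quaternion algebra of two by two matrices.

* `GU ι F` : the matrices `g` over `M2 F` with `gᴴ g = 1`
* `UVec` : vectors of norm one, with the action of `GU`
* `sig u` : `SL_2(F)` acting on the line of `u`; `rf u` is its central involution
* `diagG`, `permG`, `single`, `eR`
* `emb` : a frame gives an embedding
-/
import Cfsg.Agent.Lib.PronSymp.Quat

set_option autoImplicit false
set_option linter.unusedSectionVars false

namespace Cfsg.Agent.PronSymp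

open Matrix
open scoped MatrixGroups

variable {F : Type*} [Field F] {ι κ ν : Type} [Fintype ι] [DecidableEq ι] [Fintype κ] [DecidableEq κ]
  [Fintype ν] [DecidableEq ν]

/-- The adjoint. -/
def hT (M : Matrix ι κ (M2 F)) : Matrix κ ι (M2 F) := Matrix.of fun k l => bar (M l k)

theorem hT_apply (M : Matrix ι κ (M2 F)) (k : κ) (l : ι) : hT M k l = bar (M l k) := rfl

theorem hT_hT (M : Matrix ι κ (M2 F)) : hT (hT M) = M := by
  ext1; simp [hT_apply]

theorem hT_mul (M : Matrix ι κ (M2 F)) (N : Matrix κ ν (M2 F)) : hT (M * N) = hT N * hT M := by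
  ext1; simp [hT_apply, Matrix.mul_apply, bar_sum, bar_mul]

theorem hT_one : hT (1 : Matrix ι ι (M2 F)) = 1 := by
  refine Matrix.ext fun k l => ?_
  by_cases h : k = l
  · subst h; simp [hT_apply]
  · simp [hT_apply, h, Ne.symm h]

theorem hT_add (M N : Matrix ι κ (M2 F)) : hT (M + N) = hT M + hT N := by
  ext1; simp [hT_apply, bar_add]

theorem hT_sub (M N : Matrix ι κ (M2 F)) : hT (M - N) = hT M - hT N := by
  ext1; simp [hT_apply, bar_sub]

/-- `u x wᴴ`. -/
def outer (u : ι → M2 F) (x : M2 F) (w : κ → M2 F) : Matrix ι κ (M2 F) :=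
  Matrix.of fun k l => u k * x * bar (w l)

/-- `uᴴ w`. -/
def inn (u w : ι → M2 F) : M2 F := ∑ k, bar (u k) * w k

theorem outer_apply (u : ι → M2 F) (x : M2 F) (w : κ → M2 F) (k : ι) (l : κ) :
    outer u x w k l = u k * x * bar (w l) := rfl

theorem hT_outer (u : ι → M2 F) (x : M2 F) (w : κ → M2 F) : hT (outer u x w) = outer w (bar x) u := by
  ext1; simp [hT_apply, outer_apply, bar_mul, mul_assoc]

theorem mul_outer (M : Matrix ν ι (M2 F)) (u : ι → M2 F) (x : M2 F) (w : κ → M2 F) :
    M * outer u x w = outer (M *ᵥ u) x w := by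
  refine Matrix.ext fun k l => ?_
  simp only [Matrix.mul_apply, outer_apply, Matrix.mulVec, dotProduct, Finset.sum_mul, mul_assoc]

theorem outer_mul (u : ι → M2 F) (x : M2 F) (w : κ → M2 F) (M : Matrix ν κ (M2 F)) :
    outer u x w * hT M = outer u x (M *ᵥ w) := by
  refine Matrix.ext fun k l => ?_
  simp only [Matrix.mul_apply, outer_apply, hT_apply, Matrix.mulVec, dotProduct, bar_sum, bar_mul,
    Finset.mul_sum, mul_assoc]

theorem outer_mul_outer (u : ι → M2 F) (x : M2 F) (w u' : κ → M2 F) (y : M2 F) (w' : ν → M2 F) :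
    outer u x w * outer u' y w' = outer u (x * inn w u' * y) w' := by
  refine Matrix.ext fun k l => ?_
  simp only [Matrix.mul_apply, outer_apply, inn, Finset.mul_sum, Finset.sum_mul, mul_assoc]

theorem outer_add (u : ι → M2 F) (x y : M2 F) (w : κ → M2 F) :
    outer u (x + y) w = outer u x w + outer u y w := by
  refine Matrix.ext fun k l => ?_
  simp [outer_apply, mul_add, add_mul]

theorem outer_zero (u : ι → M2 F) (w : κ → M2 F) : outer u (0 : M2 F) w = 0 := by
  refine Matrix.ext fun k l => ?_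
  simp [outer_apply]

theorem inn_mulVec (M : Matrix ι κ (M2 F)) (u : κ → M2 F) (w : ι → M2 F) :
    inn (M *ᵥ u) w = inn u (hT M *ᵥ w) := by
  simp only [inn, Matrix.mulVec, dotProduct, bar_sum, bar_mul, hT_apply, Finset.sum_mul, Finset.mul_sum,
    mul_assoc]
  exact Finset.sum_comm

theorem inn_self (u : ι → M2 F) : inn u u = (∑ k, (u k).det) • (1 : M2 F) := by
  simp only [inn, bar_mul_self, Finset.sum_smul]

/-! ### The group -/

/-- The group. -/
def GU (ι : Type) [Fintype ι] [DecidableEq ι] (F : Type*) [Field F] :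
    Subgroup (Matrix ι ι (M2 F))ˣ where
  carrier := {g | hT (g : Matrix ι ι (M2 F)) * g = 1}
  one_mem' := by simp [hT_one]
  mul_mem' {a b} ha hb := by
    show hT ((a : Matrix ι ι (M2 F)) * (b : Matrix ι ι (M2 F))) * ((a : Matrix ι ι (M2 F)) * (b : Matrix ι ι (M2 F))) = 1
    rw [hT_mul, mul_assoc, ← mul_assoc (hT (a : Matrix ι ι (M2 F))), ha, one_mul, hb]
  inv_mem' {a} ha := by
    show hT ((a⁻¹ : (Matrix ι ι (M2 F))ˣ) : Matrix ι ι (M2 F)) * _ = 1
    have h : ((a⁻¹ : (Matrix ι ι (M2 F))ˣ) : Matrix ι ι (M2 F)) = hT (a : Matrix ι ι (M2 F)) :=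
      (left_inv_eq_right_inv ha a.mul_inv).symm
    rw [h, hT_hT, ← h, a.mul_inv]

/-- The matrix of an element. -/
def mat (g : GU ι F) : Matrix ι ι (M2 F) := ((g : (Matrix ι ι (M2 F))ˣ) : Matrix ι ι (M2 F))

@[simp] theorem mat_mul (g h : GU ι F) : mat (g * h) = mat g * mat h := rfl

@[simp] theorem mat_one : mat (1 : GU ι F) = 1 := rfl

theorem mat_injective : Function.Injective (mat : GU ι F → Matrix ι ι (M2 F)) :=
  fun _ _ h => Subtype.ext (Units.ext h)

theorem hT_mul_mat (g : GU ι F) : hT (mat g) * mat g = 1 := g.2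

theorem mat_inv (g : GU ι F) : mat g⁻¹ = hT (mat g) :=
  (left_inv_eq_right_inv (hT_mul_mat g) (by rw [← mat_mul, mul_inv_cancel, mat_one])).symm

theorem mat_mul_hT (g : GU ι F) : mat g * hT (mat g) = 1 := by
  rw [← mat_inv, ← mat_mul, mul_inv_cancel, mat_one]

/-- Constructor. -/
def mkGU (M : Matrix ι ι (M2 F)) (h₁ : hT M * M = 1) (h₂ : M * hT M = 1) : GU ι F :=
  ⟨⟨M, hT M, h₂, h₁⟩, h₁⟩

@[simp] theorem mat_mkGU (M : Matrix ι ι (M2 F)) (h₁ : hT M * M = 1) (h₂ : M * hT M = 1) :
    mat (mkGU M h₁ h₂) = M := rfl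

/-! ### Vectors of norm one -/

/-- Vectors of norm one. -/
abbrev UVec (ι : Type) [Fintype ι] [DecidableEq ι] (F : Type*) [Field F] : Type _ :=
  {u : ι → M2 F // inn u u = 1}

instance : MulAction (GU ι F) (UVec ι F) where
  smul g u := ⟨mat g *ᵥ u.1, by rw [inn_mulVec, Matrix.mulVec_mulVec, hT_mul_mat, Matrix.one_mulVec, u.2]⟩
  one_smul u := Subtype.ext (Matrix.one_mulVec u.1)
  mul_smul g h u := Subtype.ext (Matrix.mulVec_mulVec u.1 (mat g) (mat h)).symm

theorem smul_val (g : GU ι F) (u : UVec ι F) : (g • u).1 = mat g *ᵥ u.1 := rfl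

theorem sum_det (u : UVec ι F) : ∑ k, (u.1 k).det = 1 := by
  have h := u.2
  rw [inn_self] at h
  exact smul_one_inj (h.trans (one_smul F (1 : M2 F)).symm)

theorem exists_det_ne_zero (u : UVec ι F) : ∃ k, (u.1 k).det ≠ 0 := by
  by_contra h
  push Not at h
  have := sum_det u
  rw [Finset.sum_eq_zero fun k _ => h k] at this
  exact zero_ne_one this

/-- The standard vector. -/
def dv (a : ι) : UVec ι F :=
  ⟨Pi.single a 1, by
    rw [inn, Finset.sum_eq_single a (fun k _ hk => by rw [Pi.single_eq_of_ne hk, mul_zero])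
      (fun h => absurd (Finset.mem_univ a) h), Pi.single_eq_same, bar_one, one_mul]⟩

theorem dv_same (a : ι) : (dv a : UVec ι F).1 a = 1 := Pi.single_eq_same a 1

theorem dv_ne {a k : ι} (h : k ≠ a) : (dv a : UVec ι F).1 k = 0 := Pi.single_eq_of_ne h 1

/-- The column of `g`. -/
theorem smul_dv_apply (g : GU ι F) (a k : ι) : (g • dv a).1 k = mat g k a := by
  show (mat g *ᵥ Pi.single a 1) k = _
  rw [Matrix.mulVec_single_one, Matrix.col_apply]

/-- The matrix of `SL_2` on the line of `u`. -/
def sigM (u : ι → M2 F) (x : M2 F) : Matrix ι ι (M2 F) := 1 + outer u (x - 1) u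

theorem sigM_apply (u : ι → M2 F) (x : M2 F) (k l : ι) :
    sigM u x k l = (if k = l then 1 else 0) + u k * (x - 1) * bar (u l) := by
  simp [sigM, outer_apply, Matrix.one_apply]

theorem sigM_one (u : ι → M2 F) : sigM u (1 : M2 F) = 1 := by
  rw [sigM, sub_self, outer_zero, add_zero]

theorem sigM_mul {u : ι → M2 F} (hu : inn u u = 1) (x y : M2 F) :
    sigM u x * sigM u y = sigM u (x * y) := by
  simp only [sigM, mul_add, add_mul, one_mul, mul_one, outer_mul_outer, hu, add_assoc, ← outer_add]
  congr 2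
  simp only [mul_sub, sub_mul, one_mul, mul_one]
  abel

theorem hT_sigM (u : ι → M2 F) (x : M2 F) : hT (sigM u x) = sigM u (bar x) := by
  rw [sigM, hT_add, hT_one, hT_outer, bar_sub, bar_one, sigM]

theorem conj_sigM {M : Matrix ι ι (M2 F)} (h : M * hT M = 1) (u : ι → M2 F) (x : M2 F) :
    M * sigM u x * hT M = sigM (M *ᵥ u) x := by
  rw [sigM, mul_add, add_mul, mul_one, h, mul_outer, outer_mul, sigM]

/-- `SL_2` on the line of `u`. -/
def sig (u : UVec ι F) : SL(2, F) →* GU ι F where
  toFun x := mkGU (sigM u.1 (x : M2 F))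
    (by rw [hT_sigM, sigM_mul u.2, bar_mul_coe, sigM_one])
    (by rw [hT_sigM, sigM_mul u.2, coe_mul_bar, sigM_one])
  map_one' := mat_injective (by rw [mat_mkGU, Matrix.SpecialLinearGroup.coe_one, sigM_one]; rfl)
  map_mul' x y := mat_injective (by
    rw [mat_mul, mat_mkGU, mat_mkGU, mat_mkGU, sigM_mul u.2, Matrix.SpecialLinearGroup.coe_mul])

theorem mat_sig (u : UVec ι F) (x : SL(2, F)) : mat (sig u x) = sigM u.1 (x : M2 F) := rfl

theorem sig_conj (g : GU ι F) (u : UVec ι F) (x : SL(2, F)) :
    g * sig u x * g⁻¹ = sig (g • u) x :=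
  mat_injective (by rw [mat_mul, mat_mul, mat_inv, mat_sig, mat_sig, conj_sigM (mat_mul_hT g)]; rfl)

theorem sig_injective (u : UVec ι F) : Function.Injective (sig u) := by
  rw [injective_iff_map_eq_one]
  intro x hx
  have h := congrArg (fun g => outer (fun _ : Unit => (1 : M2 F)) 1 u.1 * (mat g - 1) *
    outer u.1 1 (fun _ : Unit => (1 : M2 F))) hx
  simp only [mat_sig, mat_one, sigM, add_sub_cancel_left, sub_self, Matrix.mul_zero, Matrix.zero_mul,
    outer_mul_outer, u.2, mul_one, one_mul] at h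
  have h' := congrFun (congrFun h ()) ()
  simp only [outer_apply, one_mul, bar_one, mul_one, Matrix.zero_apply, sub_eq_zero] at h'
  exact Subtype.ext h'

/-- The reflection of `u`. -/
def rf (u : UVec ι F) : GU ι F := sig u (-1)

theorem rf_conj (g : GU ι F) (u : UVec ι F) : g * rf u * g⁻¹ = rf (g • u) := sig_conj g u (-1)

theorem rf_mul_self (u : UVec ι F) : rf u * rf u = 1 := by
  rw [rf, ← map_mul, neg_mul, one_mul, neg_neg, map_one]

theorem rf_inv (u : UVec ι F) : (rf u)⁻¹ = rf u := inv_eq_of_mul_eq_one_right (rf_mul_self u)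

theorem mat_rf (u : UVec ι F) (k l : ι) :
    mat (rf u) k l = (if k = l then 1 else 0) - (2 : F) • (u.1 k * bar (u.1 l)) := by
  rw [rf, mat_sig, sigM_apply, Matrix.SpecialLinearGroup.coe_neg, Matrix.SpecialLinearGroup.coe_one,
    sub_eq_add_neg _ ((2 : F) • _), two_smul]
  simp only [mul_sub, sub_mul, mul_neg, neg_mul, mul_one]
  abel

/-! ### Monomial elements -/

/-- Diagonal elements. -/
def diagG : (ι → SL(2, F)) →* GU ι F where
  toFun c := mkGU (Matrix.diagonal fun k => (c k : M2 F))
    (by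
      rw [show hT (Matrix.diagonal fun k => (c k : M2 F)) = Matrix.diagonal fun k => bar (c k : M2 F) from by
        refine Matrix.ext fun k l => ?_
        by_cases h : k = l <;> simp [hT_apply, h, Ne.symm]]
      rw [Matrix.diagonal_mul_diagonal, ← Matrix.diagonal_one]
      exact congrArg Matrix.diagonal (funext fun k => bar_mul_coe (c k)))
    (by
      rw [show hT (Matrix.diagonal fun k => (c k : M2 F)) = Matrix.diagonal fun k => bar (c k : M2 F) from by
        refine Matrix.ext fun k l => ?_
        by_cases h : k = l <;> simp [hT_apply, h, Ne.symm]]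
      rw [Matrix.diagonal_mul_diagonal, ← Matrix.diagonal_one]
      exact congrArg Matrix.diagonal (funext fun k => coe_mul_bar (c k)))
  map_one' := mat_injective (by simp)
  map_mul' c d := mat_injective (by simp [Matrix.diagonal_mul_diagonal])

theorem mat_diagG (c : ι → SL(2, F)) : mat (diagG c) = Matrix.diagonal fun k => (c k : M2 F) := rfl

theorem diagG_injective : Function.Injective (diagG : (ι → SL(2, F)) →* GU ι F) := fun c d h => by
  funext k
  have := congrFun (congrFun (congrArg mat h) k) k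
  rw [mat_diagG, mat_diagG, Matrix.diagonal_apply_eq, Matrix.diagonal_apply_eq] at this
  exact Subtype.ext this

theorem hT_permMat (π : Equiv.Perm ι) :
    hT (Matrix.of fun k l => if k = π l then (1 : M2 F) else 0) =
      Matrix.of fun k l => if k = π⁻¹ l then (1 : M2 F) else 0 := by
  refine Matrix.ext fun k l => ?_
  by_cases h : l = π k
  · subst h; simp [hT_apply]
  · have h' : ¬ k = π⁻¹ l := fun e => h (by rw [e]; simp)
    rw [hT_apply, Matrix.of_apply, Matrix.of_apply, if_neg h, if_neg h', bar_zero]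

theorem permMat_one :
    (Matrix.of fun k l => if k = (1 : Equiv.Perm ι) l then (1 : M2 F) else 0) = 1 := by
  refine Matrix.ext fun k l => ?_
  rw [Matrix.of_apply, Matrix.one_apply, Equiv.Perm.one_apply]

theorem permMat_mul (π ρ : Equiv.Perm ι) :
    ((Matrix.of fun k l => if k = π l then (1 : M2 F) else 0) *
      Matrix.of fun k l => if k = ρ l then (1 : M2 F) else 0) =
      Matrix.of fun k l => if k = (π * ρ) l then (1 : M2 F) else 0 := by
  refine Matrix.ext fun k l => ?_
  simp only [Matrix.mul_apply, Matrix.of_apply, Equiv.Perm.mul_apply, ite_mul, one_mul, zero_mul, mul_ite,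
    mul_one, mul_zero]
  rw [Finset.sum_eq_single (ρ l) (fun m _ hm => by simp [hm]) (fun h => absurd (Finset.mem_univ _) h)]
  by_cases h : k = π (ρ l) <;> simp [h]

/-- Permutations. -/
def permG : Equiv.Perm ι →* GU ι F where
  toFun π := mkGU (Matrix.of fun k l => if k = π l then (1 : M2 F) else 0)
    (by rw [hT_permMat, permMat_mul, inv_mul_cancel, permMat_one])
    (by rw [hT_permMat, permMat_mul, mul_inv_cancel, permMat_one])
  map_one' := mat_injective (by rw [mat_mkGU, permMat_one, mat_one])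
  map_mul' π ρ := mat_injective (by rw [mat_mul, mat_mkGU, mat_mkGU, mat_mkGU, permMat_mul])

theorem mat_permG (π : Equiv.Perm ι) (k l : ι) :
    mat (permG π : GU ι F) k l = if k = π l then 1 else 0 := rfl

theorem mat_diag_perm (c : ι → SL(2, F)) (π : Equiv.Perm ι) (k l : ι) :
    mat (diagG c * permG π) k l = if k = π l then (c k : M2 F) else 0 := by
  rw [mat_mul, mat_diagG, Matrix.diagonal_mul, mat_permG, mul_ite, mul_one, mul_zero]

theorem permG_diag (π : Equiv.Perm ι) (c : ι → SL(2, F)) :
    permG π * diagG c = diagG (fun k => c (π⁻¹ k)) * permG π := by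
  refine mat_injective (Matrix.ext fun k l => ?_)
  rw [mat_diag_perm, mat_mul, mat_diagG, Matrix.mul_diagonal, mat_permG, ite_mul, one_mul, zero_mul]
  by_cases h : k = π l
  · simp [h]
  · rw [if_neg h, if_neg h]

theorem permG_smul_dv (π : Equiv.Perm ι) (a : ι) : (permG π : GU ι F) • (dv a : UVec ι F) = dv (π a) := by
  refine Subtype.ext (funext fun k => ?_)
  rw [smul_dv_apply, mat_permG]
  by_cases h : k = π a
  · subst h; rw [if_pos rfl, dv_same]
  · rw [if_neg h, dv_ne h]

/-- `SL_2` on one coordinate. -/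
def single (a : ι) : SL(2, F) →* GU ι F := sig (dv a)

theorem single_eq_diag (a : ι) (x : SL(2, F)) : single a x = diagG (Pi.mulSingle a x) := by
  refine mat_injective (Matrix.ext fun k l => ?_)
  rw [single, mat_sig, sigM_apply, mat_diagG, Matrix.diagonal_apply]
  by_cases hk : k = a
  · subst hk
    by_cases hl : k = l
    · subst hl; simp [dv_same]
    · simp [dv_ne (Ne.symm hl), hl]
  · simp [dv_ne hk, Pi.mulSingle_eq_of_ne hk]

/-- The reflections of the standard frame. -/
def eR (a : ι) : GU ι F := rf (dv a)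

theorem eR_eq_single (a : ι) : (eR a : GU ι F) = single a (-1) := rfl

theorem mat_eR (a : ι) : mat (eR a : GU ι F) = Matrix.diagonal fun k => if k = a then (-1 : M2 F) else 1 := by
  rw [eR_eq_single, single_eq_diag, mat_diagG]
  congr 1
  funext k
  by_cases h : k = a
  · subst h; simp
  · simp [h]

theorem permG_conj_single (π : Equiv.Perm ι) (a : ι) (x : SL(2, F)) :
    (permG π : GU ι F) * single a x * (permG π)⁻¹ = single (π a) x := by
  rw [single, sig_conj, permG_smul_dv]; rfl

theorem permG_conj_eR (π : Equiv.Perm ι) (a : ι) :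
    (permG π : GU ι F) * eR a * (permG π)⁻¹ = eR (π a) := permG_conj_single π a (-1)

/-- Column `a` is supported at `b`. -/
theorem rf_eq_eR_iff (h2 : (2 : F) ≠ 0) {u : UVec ι F} {b : ι} :
    rf u = eR b ↔ ∀ k, k ≠ b → u.1 k = 0 := by
  constructor
  · intro h k hk
    have h0 : ∀ l, u.1 k * bar (u.1 l) = 0 := fun l => by
      have e := congrFun (congrFun (congrArg mat h) k) l
      rw [mat_rf, mat_eR, Matrix.diagonal_apply] at e
      by_cases hkl : k = l
      · simpa [hkl, show l ≠ b from hkl ▸ hk, sub_eq_self, h2] using e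
      · simpa [hkl, h2] using e
    calc u.1 k = u.1 k * inn u.1 u.1 := by rw [u.2, mul_one]
      _ = 0 := by simp [inn, Finset.mul_sum, ← mul_assoc, h0]
  · intro h
    refine mat_injective (Matrix.ext fun k l => ?_)
    rw [mat_rf, mat_eR, Matrix.diagonal_apply]
    by_cases hk : k = b
    · subst hk
      by_cases hl : k = l
      · subst hl
        have hd : (u.1 k).det = 1 := by
          have := sum_det u
          rwa [Finset.sum_eq_single k (fun m _ hm => by rw [h m hm, Matrix.det_zero])
            (fun hm => absurd (Finset.mem_univ k) hm)] at this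
        rw [if_pos rfl, if_pos rfl, if_pos rfl, mul_bar, hd, one_smul, two_smul]
        abel
      · rw [if_neg hl, if_neg hl, h l (Ne.symm hl), bar_zero, mul_zero, smul_zero, sub_zero]
    · rw [h k hk, zero_mul, smul_zero, sub_zero, if_neg hk]

theorem conj_eR_iff (h2 : (2 : F) ≠ 0) {g : GU ι F} {a b : ι} :
    g * eR a * g⁻¹ = eR b ↔ ∀ k, k ≠ b → mat g k a = 0 := by
  rw [show (eR a : GU ι F) = rf (dv a) from rfl, rf_conj, rf_eq_eR_iff h2]
  simp only [smul_dv_apply]

theorem commute_eR_iff (h2 : (2 : F) ≠ 0) {g : GU ι F} {a : ι} :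
    Commute g (eR a) ↔ ∀ k, k ≠ a → mat g k a = 0 ∧ mat g a k = 0 := by
  have hneg : ∀ x : M2 F, -x = x → x = 0 := fun x hx => by
    have : (2 : F) • x = 0 := by
      rw [two_smul]; nth_rw 1 [← hx]; exact neg_add_cancel x
    exact (smul_eq_zero.mp this).resolve_left h2
  have key : Commute g (eR a) ↔ ∀ k l, mat g k l * (if l = a then -1 else 1) =
      (if k = a then -1 else 1) * mat g k l := by
    constructor
    · intro h k l
      have e := congrFun (congrFun (congrArg mat h.eq) k) l
      rwa [mat_mul, mat_mul, mat_eR, Matrix.mul_diagonal, Matrix.diagonal_mul] at e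
    · intro h
      refine mat_injective (Matrix.ext fun k l => ?_)
      rw [mat_mul, mat_mul, mat_eR, Matrix.mul_diagonal, Matrix.diagonal_mul]
      exact h k l
  rw [key]
  constructor
  · intro h k hk
    have e1 := h k a
    have e2 := h a k
    simp only [if_neg hk, if_true, mul_one, one_mul, mul_neg, neg_mul] at e1 e2
    exact ⟨hneg _ e1, hneg _ e2.symm⟩
  · intro h k l
    by_cases hk : k = a
    · subst hk
      by_cases hl : l = k
      · subst hl; simp
      · simp [hl, (h l hl).2]
    · by_cases hl : l = a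
      · subst hl; simp [hk, (h k hk).1]
      · simp [hk, hl]

theorem commute_rf_eR_iff (h2 : (2 : F) ≠ 0) {u : UVec ι F} {a : ι} :
    Commute (rf u) (eR a) ↔ ∀ k, k ≠ a → u.1 k * bar (u.1 a) = 0 := by
  rw [commute_eR_iff h2]
  refine forall_congr' fun k => imp_congr_right fun hk => ?_
  rw [mat_rf, mat_rf, if_neg hk, if_neg (Ne.symm hk), zero_sub, zero_sub, neg_eq_zero, neg_eq_zero,
    smul_eq_zero_iff_right h2, smul_eq_zero_iff_right h2]
  refine ⟨fun h => h.1, fun h => ⟨h, ?_⟩⟩
  have := congrArg bar h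
  rwa [bar_mul, bar_bar, bar_zero] at this

/-- A reflection commuting with the whole frame belongs to it. -/
theorem exists_eR_of_forall_commute (h2 : (2 : F) ≠ 0) {u : UVec ι F}
    (h : ∀ a, Commute (rf u) (eR a)) : ∃ b, rf u = eR b := by
  obtain ⟨b, hb⟩ := exists_det_ne_zero u
  refine ⟨b, (rf_eq_eR_iff h2).mpr fun k hk => ?_⟩
  exact eq_zero_of_mul_unit (by rwa [det_bar]) ((commute_rf_eR_iff h2).mp (h b) k hk)

/-! ### Frames -/

variable (ι κ F) in
/-- An orthonormal family. -/
abbrev Frame : Type _ := {M : Matrix ι κ (M2 F) // hT M * M = 1}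

/-- The matrix of the embedding given by a frame. -/
def embMat (M : Frame F ι κ) (X : Matrix κ κ (M2 F)) : Matrix ι ι (M2 F) :=
  1 + M.1 * (X - 1) * hT M.1

theorem embMat_one (M : Frame F ι κ) : embMat M 1 = 1 := by
  rw [embMat, sub_self, Matrix.mul_zero, Matrix.zero_mul, add_zero]

theorem embMat_mul (M : Frame F ι κ) (X Y : Matrix κ κ (M2 F)) :
    embMat M X * embMat M Y = embMat M (X * Y) := by
  obtain ⟨M, hM⟩ := M
  have h : (M * (X - 1) * hT M) * (M * (Y - 1) * hT M) = M * ((X - 1) * (Y - 1)) * hT M := by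
    calc _ = M * (X - 1) * (hT M * M) * (Y - 1) * hT M := by simp only [Matrix.mul_assoc]
      _ = _ := by rw [hM, Matrix.mul_one]; simp only [Matrix.mul_assoc]
  show (1 + M * (X - 1) * hT M) * (1 + M * (Y - 1) * hT M) = 1 + M * (X * Y - 1) * hT M
  rw [mul_add, add_mul, add_mul, one_mul, mul_one, one_mul, h, add_assoc]
  congr 1
  rw [← Matrix.add_mul, ← Matrix.add_mul, ← Matrix.mul_add, ← Matrix.mul_add]
  congr 2
  rw [sub_mul, mul_sub, mul_one, one_mul]
  abel

theorem hT_embMat (M : Frame F ι κ) (X : Matrix κ κ (M2 F)) : hT (embMat M X) = embMat M (hT X) := by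
  simp only [embMat, hT_add, hT_one, hT_mul, hT_hT, hT_sub, Matrix.mul_assoc]

/-- The embedding given by a frame. -/
def emb (M : Frame F ι κ) : GU κ F →* GU ι F where
  toFun g := mkGU (embMat M (mat g))
    (by rw [hT_embMat, embMat_mul, hT_mul_mat, embMat_one])
    (by rw [hT_embMat, embMat_mul, mat_mul_hT, embMat_one])
  map_one' := mat_injective (by rw [mat_mkGU, mat_one, embMat_one, mat_one])
  map_mul' g h := mat_injective (by
    show embMat M (mat g * mat h) = embMat M (mat g) * embMat M (mat h)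
    rw [embMat_mul])

theorem mat_emb (M : Frame F ι κ) (g : GU κ F) : mat (emb M g) = 1 + M.1 * (mat g - 1) * hT M.1 := rfl

theorem emb_injective (M : Frame F ι κ) : Function.Injective (emb M) := by
  intro g h he
  have e := congrArg (fun x => hT M.1 * (mat x - 1) * M.1) he
  simp only [mat_emb, add_sub_cancel_left, Matrix.mul_assoc, M.2, Matrix.mul_one] at e
  simp only [← Matrix.mul_assoc, M.2, Matrix.one_mul, sub_left_inj] at e
  exact mat_injective e

/-- The image of a vector of norm one. -/
def embV (M : Frame F ι κ) (u : UVec κ F) : UVec ι F :=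
  ⟨M.1 *ᵥ u.1, by rw [inn_mulVec, Matrix.mulVec_mulVec, M.2, Matrix.one_mulVec, u.2]⟩

theorem emb_sig (M : Frame F ι κ) (u : UVec κ F) (x : SL(2, F)) :
    emb M (sig u x) = sig (embV M u) x := by
  refine mat_injective ?_
  rw [mat_emb, mat_sig, mat_sig, sigM, add_sub_cancel_left, mul_outer, outer_mul]
  rfl

end Cfsg.Agent.PronSymp
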