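/-
The two dimensional step of the frame argument: Glauberman's theorem kills a second reflection.

* `exists_diag_of_forall_commute`
* `commute_two_block`
-/
import Cfsg.Agent.Lib.PronSymp.Unitary
import Cfsg.Agent.Lib.ZStar.Unique
import Cfsg.Agent.Lib.ZStar.Glauberman
import Cfsg.Agent.Lib.Transfer.Focal

set_option autoImplicit false
set_option linter.unusedSectionVars false

namespace Cfsg.Agent.PronSymp

open Matrix
open scoped MatrixGroups

variable {F : Type*} [Field F] {ι : Type} [Fintype ι] [DecidableEq ι]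

/-- The facts used about the quaternion subgroup. -/
structure Q8Data (Q : Subgroup SL(2, F)) (i j : SL(2, F)) : Prop where
  basis : Basis8 i j
  mi : i ∈ Q
  mj : j ∈ Q
  pow : ∀ g ∈ Q, g ^ 8 = 1
  odd3 : ∀ g, (∀ q ∈ Q, g * q * g⁻¹ ∈ Q) → Odd (orderOf g) → g ^ 3 = 1

theorem Q8Data.neg {Q : Subgroup SL(2, F)} {i j : SL(2, F)} (D : Q8Data Q i j) : (-1 : SL(2, F)) ∈ Q := by
  rw [← D.basis.ii]; exact mul_mem D.mi D.mi

theorem Q8Data.eq_one {Q : Subgroup SL(2, F)} {i j : SL(2, F)} (D : Q8Data Q i j) {g : SL(2, F)} (hg : g ∈ Q)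
    (ho : Odd (orderOf g)) : g = 1 :=
  PronormalOdd.eq_one_of_odd_of_pow ho (k := 3) (by norm_num; exact D.pow g hg)

theorem eR_commute (a b : ι) : Commute (eR a : GU ι F) (eR b) := by
  refine mat_injective ?_
  rw [mat_mul, mat_mul, mat_eR, mat_eR, Matrix.diagonal_mul_diagonal, Matrix.diagonal_mul_diagonal]
  congr 1
  funext k
  split_ifs <;> simp

theorem eR_mul_self (a : ι) : (eR a : GU ι F) * eR a = 1 := rf_mul_self _

theorem eR_inv (a : ι) : (eR a : GU ι F)⁻¹ = eR a := rf_inv _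

theorem exists_diag_of_forall_commute (h2 : (2 : F) ≠ 0) {g : GU ι F} (h : ∀ a, Commute g (eR a)) :
    ∃ c : ι → SL(2, F), g = diagG c := by
  have h0 : ∀ k l, k ≠ l → mat g k l = 0 := fun k l hkl => ((commute_eR_iff h2).mp (h l) k hkl).1
  have hd : ∀ k, (mat g k k).det = 1 := by
    intro k
    have e := congrFun (congrFun (hT_mul_mat g) k) k
    rw [Matrix.mul_apply, Finset.sum_eq_single k (fun m _ hm => by rw [h0 m k hm, mul_zero])
      (fun hm => absurd (Finset.mem_univ k) hm), hT_apply, bar_mul_self, Matrix.one_apply_eq,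
      ← one_smul F (1 : M2 F), smul_smul, mul_one] at e
    exact smul_one_inj e
  refine ⟨fun k => ⟨mat g k k, hd k⟩, mat_injective (Matrix.ext fun k l => ?_)⟩
  show mat g k l = Matrix.diagonal (fun k => mat g k k) k l
  rw [Matrix.diagonal_apply]
  by_cases hkl : k = l
  · subst hkl; rw [if_pos rfl]
  · rw [if_neg hkl, h0 k l hkl]

/-- The scalar `-1`. -/
def negG : GU ι F := diagG fun _ => -1

theorem negG_central (g : GU ι F) : Commute negG g := by
  refine mat_injective (Matrix.ext fun k l => ?_)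
  rw [mat_mul, mat_mul, negG, mat_diagG, Matrix.diagonal_mul, Matrix.mul_diagonal]
  simp

theorem negG_mul_self : (negG : GU ι F) * negG = 1 := by
  rw [negG, ← map_mul, ← map_one (diagG (ι := ι) (F := F))]
  congr 1
  funext k
  simp

theorem negG_ne_one [Nonempty ι] (h2 : (2 : F) ≠ 0) : (negG : GU ι F) ≠ 1 := fun h => by
  have := congrFun (diagG_injective (h.trans (map_one diagG).symm)) (Classical.arbitrary ι)
  exact PronormalOdd.neg_one_ne_one' h2 this

theorem eR_one_eq : (eR 1 : GU (Fin 2) F) = eR 0 * negG := by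
  refine mat_injective ?_
  rw [mat_mul, mat_eR, mat_eR, negG, mat_diagG, Matrix.diagonal_mul_diagonal]
  congr 1
  funext k
  fin_cases k <;> simp

theorem commute_eR_one {g : GU (Fin 2) F} (h : Commute g (eR 0)) : ∀ a, Commute g (eR a) := by
  intro a
  fin_cases a
  · exact h
  · show Commute g (eR 1)
    rw [eR_one_eq]
    exact h.mul_right (negG_central g).symm

/-- Glauberman's theorem modulo a central subgroup. -/
theorem exists_odd_normal {L : Type*} [Group L] [Finite L] (Z : Subgroup L) [Z.Normal]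
    (hZc : Z ≤ Subgroup.center L) {e y : L} (he : e * e = 1) (hy : y * y = 1) (heZ : e ∉ Z)
    (key : ∀ z w, (w = e ∨ w = y) →
      Commute (QuotientGroup.mk' Z e) (QuotientGroup.mk' Z (z * w * z⁻¹)) →
      QuotientGroup.mk' Z (z * w * z⁻¹) = QuotientGroup.mk' Z e) :
    ∃ R : Subgroup L, Odd (Nat.card R) ∧ R.Normal ∧ ∃ b ∈ R, ∃ a ∈ Z, y * e = a * b := by
  classical
  haveI : Fact (Nat.Prime 2) := ⟨Nat.prime_two⟩
  set f := QuotientGroup.mk' Z
  have hfe : f e * f e = 1 := by rw [← map_mul, he, map_one]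
  have hord : orderOf (f e) = 2 := orderOf_eq_prime (by rw [pow_two, hfe])
    fun h => heZ ((QuotientGroup.eq_one_iff e).mp h)
  have hiso : IsIsolatedInvolution (f e) := by
    refine ⟨hord, fun g hg => ?_⟩
    obtain ⟨g, rfl⟩ := QuotientGroup.mk'_surjective Z g
    rw [← map_inv, ← map_mul, ← map_mul] at hg ⊢
    exact key g e (Or.inl rfl) hg
  obtain ⟨T, heT, hTC⟩ := Transfer.exists_sylow_le_centralizer_of_isolated hiso
  have hyp : IsPGroup 2 (Subgroup.zpowers (f y)) := by
    obtain ⟨k, -, hk⟩ := (Nat.dvd_prime_pow Nat.prime_two).mp (orderOf_dvd_of_pow_eq_one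
      (show f y ^ 2 ^ 1 = 1 by rw [pow_one, pow_two, ← map_mul, hy, map_one]))
    exact IsPGroup.of_card (n := k) (by rw [Nat.card_zpowers, hk])
  obtain ⟨T', hT'⟩ := hyp.exists_le_sylow
  obtain ⟨a, ha⟩ := MulAction.exists_smul_eq (L ⧸ Z) T' T
  obtain ⟨a, rfl⟩ := QuotientGroup.mk'_surjective Z a
  have haT : f a * f y * (f a)⁻¹ ∈ T := by
    rw [← ha]
    exact ⟨f y, hT' (Subgroup.mem_zpowers _), rfl⟩
  have hconj : f a * f y * (f a)⁻¹ = f e := by
    have := key a y (Or.inr rfl) (by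
      rw [map_mul, map_mul, map_inv]
      exact (Subgroup.mem_centralizer_singleton_iff.mp (hTC haT)).symm)
    rwa [map_mul, map_mul, map_inv] at this
  set O := pPrimeCore 2 (L ⧸ Z)
  have hO : f (y * e) ∈ O := by
    have h' := O.inv_mem (ZStar.zStar_of_brauerSuzuki ZStar.uniqueInvolution hiso (f a)⁻¹)
    have e1 : (f e * (f a)⁻¹ * (f e)⁻¹ * ((f a)⁻¹)⁻¹)⁻¹ = f (y * e) := by
      rw [inv_eq_of_mul_eq_one_right hfe, map_mul,
        show f y = (f a)⁻¹ * f e * f a by rw [← hconj]; group]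
      rw [_root_.mul_inv_rev, _root_.mul_inv_rev, _root_.mul_inv_rev, inv_inv, inv_inv,
        inv_eq_of_mul_eq_one_right hfe]
      simp only [mul_assoc]
    rwa [e1] at h'
  set P : Subgroup L := O.comap f
  have hOn : O.Normal := Cores.pPrimeCore_normal 2 _
  have hPn : P.Normal := Subgroup.Normal.comap hOn f
  set Zp : Subgroup P := Z.subgroupOf P
  have hOodd : Odd (Nat.card O) := Nat.coprime_two_right.mp (Cores.coprime_card_pPrimeCore 2)
  have hZpc : Zp ≤ Subgroup.center P := fun x hx => Subgroup.mem_center_iff.mpr fun w =>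
    Subtype.ext (Subgroup.mem_center_iff.mp (hZc hx) (w : L))
  haveI : Zp.Normal := Subgroup.normal_subgroupOf
  obtain ⟨T₀⟩ : Nonempty (Sylow 2 (P ⧸ Zp)) := inferInstance
  have hT₀ : ∀ x ∈ T₀, x = 1 := by
    intro x hx
    obtain ⟨k, hk⟩ := T₀.isPGroup' ⟨x, hx⟩
    have hk' : x ^ 2 ^ k = 1 := congrArg Subtype.val hk
    refine PronormalOdd.eq_one_of_odd_of_pow ?_ hk'
    obtain ⟨p, rfl⟩ := QuotientGroup.mk'_surjective Zp x
    refine hOodd.of_dvd_nat (orderOf_dvd_of_pow_eq_one ?_)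
    rw [← map_pow]
    refine (QuotientGroup.eq_one_iff _).mpr ?_
    show ((p : L) ^ Nat.card O) ∈ Z
    refine (QuotientGroup.eq_one_iff _).mp ?_
    rw [QuotientGroup.mk_pow]
    exact congrArg Subtype.val (pow_card_eq_one' (x := (⟨f p, p.2⟩ : O)))
  obtain ⟨R₀, hR₀, hR₀mem⟩ := PronormalOdd.exists_odd_core Zp hZpc T₀ (fun x _ =>
    Subgroup.mem_centralizer_iff.mpr fun w hw => by rw [hT₀ w hw]; simp)
  have hRcard : Odd (Nat.card (R₀.map P.subtype)) := by
    rwa [Subgroup.card_map_of_injective P.subtype_injective]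
  refine ⟨R₀.map P.subtype, hRcard, ⟨fun x hx l => ?_⟩, ?_⟩
  · have hxP : x ∈ P := Subgroup.map_subtype_le _ hx
    refine ⟨⟨l * x * l⁻¹, hPn.conj_mem x hxP l⟩, hR₀mem _ ?_, rfl⟩
    rw [← Subgroup.orderOf_coe]
    show Odd (orderOf (l * x * l⁻¹))
    rw [← MulAut.conj_apply, MulEquiv.orderOf_eq]
    exact PronormalOdd.odd_orderOf_of_mem hRcard hx
  · obtain ⟨a', ha', b, hb, hab, ⟨k, hk⟩, hbo⟩ := PronormalOdd.exists_pp'_decomp (p := 2) (y * e)
    have hyeP : y * e ∈ P := hO
    have hbP : b ∈ P := Subgroup.zpowers_le.mpr hyeP hb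
    have haP : a' ∈ P := Subgroup.zpowers_le.mpr hyeP ha'
    refine ⟨b, ⟨⟨b, hbP⟩, hR₀mem _ ?_, rfl⟩, a', ?_, hab⟩
    · rw [← Subgroup.orderOf_coe]; exact Nat.coprime_two_right.mp hbo
    · refine (QuotientGroup.eq_one_iff a').mp ?_
      exact PronormalOdd.eq_one_of_odd_of_pow (PronormalOdd.odd_orderOf_of_mem hOodd haP)
        (k := k) (by show f a' ^ 2 ^ k = 1; rw [← map_pow, hk, map_one])

/-- A fixed point free involutory automorphism inverts. -/
theorem inverts_of_fixedPointFree {G : Type*} [Group G] (R : Subgroup G) [Finite R] {e : G}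
    (he : e * e = 1) (hn : ∀ r ∈ R, e * r * e ∈ R) (hfix : ∀ r ∈ R, Commute r e → r = 1) :
    ∀ r ∈ R, e * r * e = r⁻¹ := by
  set φ : R → R := fun r => ⟨(r : G)⁻¹ * (e * r * e), mul_mem (inv_mem r.2) (hn r r.2)⟩
  have hinj : Function.Injective φ := by
    rintro ⟨r, hr⟩ ⟨s, hs⟩ h
    have h' : r⁻¹ * (e * r * e) = s⁻¹ * (e * s * e) := congrArg Subtype.val h
    have h'' : s * r⁻¹ = e * (s * r⁻¹) * e := by
      have h3 : s * (r⁻¹ * (e * r * e)) = e * s * e := by rw [h', mul_inv_cancel_left]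
      calc s * r⁻¹ = s * (r⁻¹ * (e * r * e)) * (e⁻¹ * r⁻¹ * e⁻¹) := by group
        _ = _ := by rw [h3, inv_eq_of_mul_eq_one_right he]; simp only [mul_assoc]; rw [← mul_assoc e e, he, one_mul]
    have h1 := hfix (s * r⁻¹) (mul_mem hs (inv_mem hr)) (by
      show s * r⁻¹ * e = e * (s * r⁻¹)
      nth_rw 1 [h'']
      rw [mul_assoc, he, mul_one])
    exact Subtype.ext (mul_inv_eq_one.mp h1).symm
  intro x hx
  obtain ⟨⟨r, hr⟩, hrx⟩ := (Finite.injective_iff_surjective.mp hinj) ⟨x, hx⟩
  have hrx' : r⁻¹ * (e * r * e) = x := congrArg Subtype.val hrx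
  rw [← hrx', _root_.mul_inv_rev, _root_.mul_inv_rev, _root_.mul_inv_rev, inv_inv,
    inv_eq_of_mul_eq_one_right he]
  calc e * (r⁻¹ * (e * r * e)) * e = e * r⁻¹ * (e * r) * (e * e) := by group
    _ = _ := by rw [he]; simp only [mul_one, mul_assoc]

/-- An inverted element commuting with its conjugates under `Q` commutes with the frame. -/
theorem commute_of_inverted (h2 : (2 : F) ≠ 0) {i j : SL(2, F)} (B : Basis8 i j) {r : GU (Fin 2) F}
    (hinv : eR 0 * r * eR 0 = r⁻¹)
    (hc : ∀ q : SL(2, F), (q = i ∨ q = j ∨ q = i * j) → Commute r (single 0 q * r * (single 0 q)⁻¹)) :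
    Commute r (eR 0) := by
  have hE : ∀ k l, (if k = (0 : Fin 2) then (-1 : M2 F) else 1) * mat r k l *
      (if l = (0 : Fin 2) then (-1 : M2 F) else 1) = bar (mat r l k) := by
    intro k l
    have h := congrFun (congrFun (congrArg mat hinv) k) l
    rwa [mat_inv, hT_apply, mat_mul, mat_mul, mat_eR, Matrix.mul_diagonal, Matrix.diagonal_mul] at h
  have ha : bar (mat r 0 0) = mat r 0 0 := by simpa using (hE 0 0).symm
  have hz : mat r 1 0 = -bar (mat r 0 1) := by
    have := hE 1 0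
    simp at this
    rw [← this, neg_neg]
  have hsc := eq_smul_one_of_bar_eq h2 ha
  obtain ⟨x, hx⟩ : ∃ x, mat r 0 1 = x := ⟨_, rfl⟩
  have hentry : ∀ q : SL(2, F), (q = i ∨ q = j ∨ q = i * j) →
      bar x * q * x = 0 := by
    intro q hq'
    have htr : (q : M2 F).trace = 0 := by
      rcases hq' with rfl | rfl | rfl
      exacts [B.tr_i h2, B.tr_j h2, by simpa using B.tr_k h2]
    have hs : ∀ k l, mat (single (0 : Fin 2) q * r * (single (0 : Fin 2) q)⁻¹) k l =
        ((Pi.mulSingle (0 : Fin 2) q : Fin 2 → SL(2, F)) k : M2 F) * mat r k l *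
          bar ((Pi.mulSingle (0 : Fin 2) q : Fin 2 → SL(2, F)) l : M2 F) := by
      intro k l
      rw [mat_mul, mat_mul, single_eq_diag, ← map_inv, mat_diagG, mat_diagG, Matrix.mul_diagonal,
        Matrix.diagonal_mul, Pi.inv_apply, coe_inv_eq_bar]
    have e11 := congrFun (congrFun (congrArg mat (hc q hq').eq) 1) 1
    rw [mat_mul r, mat_mul _ r, Matrix.mul_apply, Matrix.mul_apply, Fin.sum_univ_two, Fin.sum_univ_two,
      hs, hs, hs] at e11
    simp only [Pi.mulSingle_eq_same, Pi.mulSingle_eq_of_ne (show (1 : Fin 2) ≠ 0 by decide),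
      Matrix.SpecialLinearGroup.coe_one, bar_one, one_mul, mul_one,
      bar_eq_neg_of_trace htr, hz, hx, mul_neg, neg_mul, neg_neg, ← mul_assoc] at e11
    have : (2 : F) • (bar x * (q : M2 F) * x) = 0 := by
      linear_combination (norm := module) -e11
    exact (smul_eq_zero.mp this).resolve_left h2
  have hx0 : x = 0 := by
    rcases B.eq_zero_or_eq_zero h2 (hentry i (Or.inl rfl)) (hentry j (Or.inr (Or.inl rfl)))
      (by simpa using hentry (i * j) (Or.inr (Or.inr rfl))) with h | h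
    · exact bar_eq_zero.mp h
    · exact h
  refine (commute_eR_iff h2).mpr fun k hk => ?_
  have hk1 : k = 1 := by omega
  subst hk1
  exact ⟨by rw [hz, hx, hx0, bar_zero, neg_zero], by rw [hx, hx0]⟩

/-- The two dimensional step. -/
theorem commute_two_block [Finite F] (h2 : (2 : F) ≠ 0) {Q : Subgroup SL(2, F)} {i j : SL(2, F)}
    (D : Q8Data Q i j) (L : Subgroup (GU (Fin 2) F)) (u₀ : UVec (Fin 2) F)
    (he : eR 0 ∈ L) (hy : rf u₀ ∈ L) (hq : ∀ q ∈ Q, single 0 q ∈ L)
    (hcap : ∀ g, single 0 g ∈ L → g ∈ Q)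
    (hiso : ∀ z ∈ L, ∀ w, (w = dv 0 ∨ w = u₀) → (z * rf w * z⁻¹ * eR 0) ^ 4 = 1 →
      Commute (z * rf w * z⁻¹) (eR 0))
    (hgam : ∀ γ, single 1 γ ∈ L → Odd (orderOf γ) → γ = 1) :
    Commute (rf u₀) (eR 0) := by
  classical
  set Zl : Subgroup L := (Subgroup.zpowers (negG : GU (Fin 2) F)).subgroupOf L with hZl
  have hZmem : ∀ x : L, x ∈ Zl → (x : GU (Fin 2) F) = 1 ∨ (x : GU (Fin 2) F) = negG := by
    intro x hx
    obtain ⟨k, hk⟩ := Subgroup.mem_zpowers_iff.mp hx
    rw [show (x : GU (Fin 2) F) = negG ^ k from hk.symm]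
    rcases Int.even_or_odd' k with ⟨m, rfl | rfl⟩
    · exact Or.inl (by rw [_root_.zpow_mul, zpow_two, negG_mul_self, _root_.one_zpow])
    · exact Or.inr (by rw [_root_.zpow_add, _root_.zpow_mul, zpow_two, negG_mul_self, _root_.one_zpow,
        one_mul, zpow_one])
  have hZc : Zl ≤ Subgroup.center L := fun x hx => Subgroup.mem_center_iff.mpr fun y => Subtype.ext (by
    show (y : GU (Fin 2) F) * x = x * y
    rcases hZmem x hx with h | h <;> rw [h]
    · simp
    · exact (negG_central _).symm.eq)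
  haveI : Zl.Normal := ⟨fun n hn g => by
    rwa [Subgroup.mem_center_iff.mp (hZc hn) g, mul_inv_cancel_right]⟩
  have heZ : (⟨eR 0, he⟩ : L) ∉ Zl := by
    intro h
    rcases hZmem _ h with h | h
    · have e00 := congrFun (congrFun (congrArg mat h) 0) 0
      simp only [mat_eR, Matrix.diagonal_apply_eq, if_true, mat_one, Matrix.one_apply_eq] at e00
      have e000 := congrFun (congrFun e00 0) 0
      simp at e000
      exact h2 (by linear_combination -e000)
    · have e00 := congrFun (congrFun (congrArg mat h) 1) 1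
      simp only [mat_eR, negG, mat_diagG, Matrix.diagonal_apply_eq, if_neg (show (1 : Fin 2) ≠ 0 by decide),
        Matrix.SpecialLinearGroup.coe_neg, Matrix.SpecialLinearGroup.coe_one] at e00
      have e000 := congrFun (congrFun e00 0) 0
      simp at e000
      exact h2 (by linear_combination e000)
  obtain ⟨R, hRodd, hRn, b, hb, a, ha, hab⟩ := exists_odd_normal Zl hZc
    (e := ⟨eR 0, he⟩) (y := ⟨rf u₀, hy⟩) (Subtype.ext (eR_mul_self 0)) (Subtype.ext (rf_mul_self u₀)) heZ (by
    intro z w hw hc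
    obtain ⟨w', hw', hwv⟩ : ∃ w', (w' = dv 0 ∨ w' = u₀) ∧ (w : GU (Fin 2) F) = rf w' := by
      rcases hw with rfl | rfl
      · exact ⟨dv 0, Or.inl rfl, rfl⟩
      · exact ⟨u₀, Or.inr rfl, rfl⟩
    have hyv : ((z * w * z⁻¹ : L) : GU (Fin 2) F) = rf ((z : GU (Fin 2) F) • w') := by
      show (z : GU (Fin 2) F) * w * (z : GU (Fin 2) F)⁻¹ = _
      rw [hwv, rf_conj]
    generalize hg : z * w * z⁻¹ = y at hc hyv ⊢
    have hm : ((⟨eR 0, he⟩ : L) * y)⁻¹ * (y * ⟨eR 0, he⟩) ∈ Zl := QuotientGroup.eq.mp (by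
      have := hc.eq
      rw [← map_mul, ← map_mul] at this
      exact this)
    have hcomm : Commute (y : GU (Fin 2) F) (eR 0) := by
      rcases hZmem _ hm with h | h
      · simp only [Subgroup.coe_mul, Subgroup.coe_inv, inv_mul_eq_one] at h
        exact h.symm
      · simp only [Subgroup.coe_mul, Subgroup.coe_inv, inv_mul_eq_iff_eq_mul] at h
        have hsq : ((y : GU (Fin 2) F) * eR 0) * ((y : GU (Fin 2) F) * eR 0) = negG := by
          nth_rw 1 [h]
          rw [← (negG_central (eR 0 * (y : GU (Fin 2) F))).eq]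
          calc negG * (eR 0 * (y : GU (Fin 2) F)) * ((y : GU (Fin 2) F) * eR 0)
              = negG * (eR 0 * (((y : GU (Fin 2) F) * (y : GU (Fin 2) F)) * eR 0)) := by simp only [mul_assoc]
            _ = negG := by rw [hyv, rf_mul_self, one_mul, eR_mul_self, mul_one]
        have := hiso z z.2 w' hw' (by
          rw [rf_conj, ← hyv, show 4 = 2 + 2 from rfl, pow_add, pow_two, hsq, negG_mul_self])
        rwa [rf_conj, ← hyv] at this
    obtain ⟨b, hb⟩ := exists_eR_of_forall_commute h2 (u := (z : GU (Fin 2) F) • w')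
      (commute_eR_one (hyv ▸ hcomm))
    refine QuotientGroup.eq.mpr ?_
    show ((y⁻¹ * ⟨eR 0, he⟩ : L) : GU (Fin 2) F) ∈ Subgroup.zpowers negG
    rw [Subgroup.coe_mul, Subgroup.coe_inv, hyv, hb, eR_inv]
    fin_cases b
    · show eR 0 * eR 0 ∈ _
      rw [eR_mul_self]; exact one_mem _
    · show eR 1 * eR 0 ∈ _
      rw [eR_one_eq, (negG_central (eR 0)).symm.eq, mul_assoc, eR_mul_self, mul_one]
      exact Subgroup.mem_zpowers _)
  set R' : Subgroup (GU (Fin 2) F) := R.map L.subtype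
  have hR'odd : Odd (Nat.card R') := by rwa [Subgroup.card_map_of_injective L.subtype_injective]
  have hR'L : R' ≤ L := Subgroup.map_subtype_le _
  have hconjR : ∀ l ∈ L, ∀ x ∈ R', l * x * l⁻¹ ∈ R' := by
    rintro l hl _ ⟨x, hx, rfl⟩
    exact ⟨_, hRn.conj_mem x hx ⟨l, hl⟩, rfl⟩
  have hfix : ∀ r ∈ R', Commute r (eR 0) → r = 1 := by
    intro r hr hc
    obtain ⟨c, rfl⟩ := exists_diag_of_forall_commute h2 (commute_eR_one hc)
    have hco : ∀ k, Odd (orderOf (c k)) := fun k => by
      have h1 : Odd (orderOf c) := by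
        rw [← orderOf_injective diagG diagG_injective c]
        exact PronormalOdd.odd_orderOf_of_mem hR'odd hr
      exact h1.of_dvd_nat (orderOf_map_dvd (Pi.evalMonoidHom (fun _ : Fin 2 => SL(2, F)) k) c)
    have hcq : ∀ q ∈ Q, Commute (c 0) q := by
      intro q hq'
      have hs := hq q hq'
      have hm : diagG c * single 0 q * (diagG c)⁻¹ * (single 0 q)⁻¹ =
          single 0 (c 0 * q * (c 0)⁻¹ * q⁻¹) := by
        rw [single_eq_diag, single_eq_diag, ← map_inv, ← map_inv, ← map_mul, ← map_mul, ← map_mul]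
        congr 1
        funext k
        by_cases hk : k = 0
        · subst hk; simp
        · simp [Pi.mulSingle_eq_of_ne hk]
      have h1 : diagG c * single 0 q * (diagG c)⁻¹ * (single 0 q)⁻¹ ∈ R' := by
        rw [show diagG c * single 0 q * (diagG c)⁻¹ * (single 0 q)⁻¹ =
          diagG c * (single 0 q * (diagG c)⁻¹ * (single 0 q)⁻¹) by group]
        exact mul_mem hr (hconjR _ hs _ (inv_mem hr))
      rw [hm] at h1
      have hone := D.eq_one (hcap _ (hR'L h1)) (by
        rw [← orderOf_injective (single (0 : Fin 2)) (sig_injective _)]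
        exact PronormalOdd.odd_orderOf_of_mem hR'odd h1)
      rw [mul_inv_eq_one, mul_inv_eq_iff_eq_mul] at hone
      exact hone
    have hc0 : c 0 = 1 := (D.basis.mem_center_of_commute h2 (hcq i D.mi) (hcq j D.mj)).resolve_right
      fun h => by
        have := hco 0
        rw [h, orderOf_eq_prime (show (-1 : SL(2, F)) ^ 2 = 1 by simp) (PronormalOdd.neg_one_ne_one' h2)]
          at this
        exact absurd this (by decide)
    have hcs : diagG c = single 1 (c 1) := by
      rw [single_eq_diag]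
      congr 1
      funext k
      fin_cases k
      · simpa using hc0
      · simp
    rw [hcs, hgam (c 1) (hcs ▸ hR'L hr) (hco 1), map_one]
  have hinv := inverts_of_fixedPointFree R' (eR_mul_self 0)
    (fun r hr => by simpa [eR_inv] using hconjR _ he r hr) hfix
  have hbot : ∀ r ∈ R', r = 1 := by
    intro r hr
    refine hfix r hr (commute_of_inverted h2 D.basis (hinv r hr) fun q hq' => ?_)
    have hqQ : q ∈ Q := by
      rcases hq' with rfl | rfl | rfl
      exacts [D.mi, D.mj, mul_mem D.mi D.mj]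
    set s := single 0 q * r * (single 0 q)⁻¹
    have hs : s ∈ R' := hconjR _ (hq q hqQ) r hr
    have h1 := hinv _ (mul_mem hr hs)
    rw [show eR 0 * (r * s) * eR 0 = (eR 0 * r * eR 0) * (eR 0 * s * eR 0) by
      rw [show (eR 0 * r * eR 0) * (eR 0 * s * eR 0) = eR 0 * r * (eR 0 * eR 0) * s * eR 0 by
        simp only [mul_assoc], eR_mul_self]
      simp only [mul_assoc, one_mul], hinv r hr, hinv s hs, _root_.mul_inv_rev] at h1
    have h2' := congrArg Inv.inv h1
    simp only [_root_.mul_inv_rev, inv_inv] at h2'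
    exact h2'.symm
  have hb1 : (b : GU (Fin 2) F) = 1 := hbot _ ⟨b, hb, rfl⟩
  have hye : rf u₀ * eR 0 = (a : GU (Fin 2) F) := by
    have := congrArg Subtype.val hab
    simpa [hb1] using this
  rcases hZmem a ha with h | h <;> rw [h] at hye
  · rw [mul_eq_one_iff_eq_inv, eR_inv] at hye
    rw [hye]
  · rw [show rf u₀ = negG * eR 0 by rw [← hye, mul_assoc, eR_mul_self, mul_one]]
    exact (negG_central _).mul_left (Commute.refl _)

end Cfsg.Agent.PronSymp
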