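/-
The frame theorem: a subgroup containing the local quaternion groups, meeting each local `SL_2` in it only,
and whose conjugates of the frame reflections commute whenever their product has order dividing four,
permutes the frame.

* `Good`, `frame`
-/
import Cfsg.Agent.Lib.PronSymp.Block

set_option autoImplicit false
set_option linter.unusedSectionVars false

namespace Cfsg.Agent.PronSymp

open Matrix
open scoped MatrixGroups

variable {F : Type*} [Field F] {ι : Type} [Fintype ι] [DecidableEq ι]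

/-- The conjugates of the frame reflections on `s` under `X`. -/
def InD (X : Subgroup (GU ι F)) (s : Finset ι) (y : GU ι F) : Prop :=
  ∃ x ∈ X, ∃ a ∈ s, y = x * eR a * x⁻¹

/-- The hypotheses of the frame theorem. -/
structure Good (Q : Subgroup SL(2, F)) (X : Subgroup (GU ι F)) (s : Finset ι) : Prop where
  fix : ∀ x ∈ X, ∀ a ∉ s, x • (dv a : UVec ι F) = dv a
  contain : ∀ a ∈ s, ∀ q ∈ Q, single a q ∈ X
  cap : ∀ a ∈ s, ∀ g, single a g ∈ X → g ∈ Q
  comm : ∀ y y', InD X s y → InD X s y' → (y * y') ^ 4 = 1 → Commute y y'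

theorem InD.conj {X : Subgroup (GU ι F)} {s : Finset ι} {y z : GU ι F} (h : InD X s y) (hz : z ∈ X) :
    InD X s (z * y * z⁻¹) := by
  obtain ⟨x, hx, a, ha, rfl⟩ := h
  exact ⟨z * x, mul_mem hz hx, a, ha, by group⟩

theorem inD_eR {X : Subgroup (GU ι F)} {s : Finset ι} {a : ι} (ha : a ∈ s) : InD X s (eR a) :=
  ⟨1, one_mem _, a, ha, by group⟩

theorem eR_injective (h2 : (2 : F) ≠ 0) {a b : ι} (h : (eR a : GU ι F) = eR b) : a = b := by
  by_contra hne
  have e := congrFun (congrFun (congrArg mat h) a) a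
  simp only [mat_eR, Matrix.diagonal_apply_eq, if_true, if_neg hne] at e
  have e0 := congrFun (congrFun e 0) 0
  simp at e0
  exact h2 (by linear_combination -e0)

theorem commute_of_fix {x : GU ι F} {a : ι} (h : x • (dv a : UVec ι F) = dv a) : Commute x (eR a) := by
  have := rf_conj x (dv a)
  rw [h] at this
  exact mul_inv_eq_iff_eq_mul.mp this

theorem single_smul_dv {a b : ι} (h : b ≠ a) (g : SL(2, F)) : single a g • (dv b : UVec ι F) = dv b := by
  refine Subtype.ext (funext fun k => ?_)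
  rw [smul_dv_apply, single_eq_diag, mat_diagG, Matrix.diagonal_apply]
  by_cases hk : k = b
  · subst hk; simp [dv_same, Pi.mulSingle_eq_of_ne h]
  · rw [if_neg hk, dv_ne hk]

theorem conj_outer (M : Matrix ι ι (M2 F)) (u : ι → M2 F) (x : M2 F) (w : ι → M2 F) :
    M * outer u x w * hT M = outer (M *ᵥ u) x (M *ᵥ w) := by
  rw [mul_outer, outer_mul]

theorem outer_smul_left (u : ι → M2 F) (c x : M2 F) (w : ι → M2 F) :
    outer (fun k => u k * c) x w = outer u (c * x) w := by
  refine Matrix.ext fun k l => ?_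
  simp only [outer_apply, mul_assoc]

theorem outer_smul_right (u : ι → M2 F) (x c : M2 F) (w : ι → M2 F) :
    outer u x (fun k => w k * c) = outer u (x * bar c) w := by
  refine Matrix.ext fun k l => ?_
  simp only [outer_apply, bar_mul, mul_assoc]

theorem outer_add_left (u u' : ι → M2 F) (x : M2 F) (w : ι → M2 F) :
    outer (u + u') x w = outer u x w + outer u' x w := by
  refine Matrix.ext fun k l => ?_
  simp only [outer_apply, Pi.add_apply, Matrix.add_apply, add_mul]

theorem outer_add_right (u : ι → M2 F) (x : M2 F) (w w' : ι → M2 F) :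
    outer u x (w + w') = outer u x w + outer u x w' := by
  refine Matrix.ext fun k l => ?_
  simp only [outer_apply, Pi.add_apply, Matrix.add_apply, bar_add, mul_add]

theorem inn_smul_right (u w : ι → M2 F) (c : M2 F) : inn u (fun k => w k * c) = inn u w * c := by
  simp only [inn, Finset.sum_mul, mul_assoc]

theorem inn_smul_left (u w : ι → M2 F) (c : M2 F) : inn (fun k => u k * c) w = bar c * inn u w := by
  simp only [inn, Finset.mul_sum, bar_mul, mul_assoc]

theorem mat_rf_outer (u : UVec ι F) : mat (rf u) = 1 - (2 : ℤ) • outer u.1 1 u.1 := by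
  refine Matrix.ext fun k l => ?_
  rw [mat_rf, Matrix.sub_apply, Matrix.smul_apply, Matrix.one_apply, outer_apply, mul_one,
    two_smul, two_smul]

/-- `1 + 2δwᴴ - 2wδᴴ - 2wwᴴ`. -/
def dM (δ w : ι → M2 F) : Matrix ι ι (M2 F) :=
  1 + (2 : ℤ) • outer δ 1 w - (2 : ℤ) • outer w 1 δ - (2 : ℤ) • outer w 1 w

theorem dM_mul {δ w w' : ι → M2 F} (h1 : inn δ δ = 1) (h2 : inn δ w = 0) (h3 : inn w δ = 0)
    (h4 : inn δ w' = 0) (h5 : inn w' δ = 0) (h6 : inn w w = 0) (h7 : inn w' w' = 0) (h8 : inn w w' = 0)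
    (h9 : inn w' w = 0) :
    dM δ w * dM δ w' = (1 - (4 : ℤ) • outer w 1 w' + (4 : ℤ) • outer w' 1 w) * (dM δ w' * dM δ w) := by
  simp only [dM, mul_add, add_mul, mul_sub, sub_mul, smul_mul_assoc, mul_smul_comm, one_mul, mul_one,
    outer_mul_outer, h1, h2, h3, h4, h5, h6, h7, h8, h9, zero_mul, mul_zero, outer_zero, smul_zero,
    add_zero, sub_zero, zero_add, zero_sub, smul_smul, smul_add, smul_sub, sub_self, neg_zero]
  abel

theorem one_add_pow_of_sq {N : M2 F} (h : N * N = 0) : ∀ n : ℕ, (1 + N) ^ n = 1 + (n : F) • N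
  | 0 => by simp
  | n + 1 => by
    rw [pow_succ, one_add_pow_of_sq h n, Nat.cast_succ, add_smul, one_smul, add_mul, one_mul, mul_add,
      mul_one, smul_mul_assoc, h, smul_zero, add_zero]
    abel

theorem det_one_add (N : M2 F) : (1 + N).det = 1 + N.trace + N.det := by
  simp [Matrix.det_fin_two, Matrix.trace_fin_two]; ring

section

variable [Finite F] {Q : Subgroup SL(2, F)} {i₀ j₀ : SL(2, F)} {X : Subgroup (GU ι F)} {s : Finset ι}

/-- The conjugates of `e_i` by the elements commuting with it stay in the frame. -/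
theorem mono_step (h2 : (2 : F) ≠ 0) (D : Q8Data Q i₀ j₀) (hG : Good Q X s) {i : ι} (hi : i ∈ s)
    (IH : ∀ X' : Subgroup (GU ι F), Good Q X' (s.erase i) → ∀ x ∈ X', ∀ a ∈ s.erase i,
      ∃ b, x * eR a * x⁻¹ = eR b)
    {x : GU ι F} (hx : x ∈ X) (hc : Commute x (eR i)) {k : ι} (hk : k ∈ s) :
    ∃ b, x * eR k * x⁻¹ = eR b := by
  by_cases hki : k = i
  · exact ⟨i, by rw [hki, hc.eq, mul_inv_cancel_right]⟩
  set u : UVec ι F := x • dv k
  have hy : x * eR k * x⁻¹ = rf u := rf_conj x (dv k)
  set X' : Subgroup (GU ι F) := X ⊓ MulAction.stabilizer (GU ι F) (dv i : UVec ι F)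
  have hyD : InD X s (rf u) := ⟨x, hx, k, hk, hy.symm⟩
  have hGood : Good Q X' (s.erase i) := by
    refine ⟨fun z hz a ha => ?_, fun a ha q hq => ?_, fun a ha g hg => ?_, ?_⟩
    · by_cases hai : a = i
      · subst hai; exact hz.2
      · exact hG.fix z hz.1 a fun h => ha (Finset.mem_erase.mpr ⟨hai, h⟩)
    · exact ⟨hG.contain a (Finset.mem_of_mem_erase ha) q hq,
        single_smul_dv (Finset.ne_of_mem_erase ha).symm q⟩
    · exact hG.cap a (Finset.mem_of_mem_erase ha) g hg.1
    · rintro y y' ⟨z, hz, a, ha, rfl⟩ ⟨z', hz', a', ha', rfl⟩ h4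
      exact hG.comm _ _ ⟨z, hz.1, a, Finset.mem_of_mem_erase ha, rfl⟩
        ⟨z', hz'.1, a', Finset.mem_of_mem_erase ha', rfl⟩ h4
  have hui : u.1 i = 0 := by
    rw [smul_dv_apply]
    exact ((commute_eR_iff h2).mp hc k hki).2
  have hyX : rf u ∈ X := hy ▸ mul_mem (mul_mem hx (hG.contain k hk _ D.neg)) (inv_mem hx)
  have hyX' : rf u ∈ X' := by
    refine ⟨hyX, Subtype.ext (funext fun l => ?_)⟩
    rw [smul_dv_apply, mat_rf, hui, bar_zero, mul_zero, smul_zero, sub_zero]
    by_cases hl : l = i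
    · subst hl; rw [if_pos rfl, dv_same]
    · rw [if_neg hl, dv_ne hl]
  have hall : ∀ l, Commute (rf u) (eR l) := by
    intro l
    by_cases hls : l ∈ s.erase i
    · obtain ⟨b, hb⟩ := IH X' hGood _ hyX' l hls
      refine hG.comm _ _ hyD (inD_eR (Finset.mem_of_mem_erase hls)) ?_
      have hsq : rf u * eR l * (rf u * eR l) = eR b * eR l := by
        rw [← hb, rf_inv]; simp only [mul_assoc]
      rw [show 4 = 2 + 2 from rfl, pow_add, pow_two, hsq, (eR_commute l b).mul_mul_mul_comm, eR_mul_self,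
        eR_mul_self, one_mul]
    · by_cases hli : l = i
      · subst hli; exact commute_of_fix hyX'.2
      · exact commute_of_fix (hG.fix _ hyX l fun h => hls (Finset.mem_erase.mpr ⟨hli, h⟩))
  obtain ⟨b, hb⟩ := exists_eR_of_forall_commute h2 hall
  exact ⟨b, hy.trans hb⟩

/-- The singular case. -/
theorem null_case (h2 : (2 : F) ≠ 0) (D : Q8Data Q i₀ j₀) (hG : Good Q X s) {i : ι} (hi : i ∈ s)
    (hstep : ∀ g ∈ X, Commute g (eR i) → ∀ k ∈ s, ∃ b, g * eR k * g⁻¹ = eR b)
    {u : UVec ι F} (hyX : rf u ∈ X) (hu0 : ∀ k ∉ s, u.1 k = 0) (hd : (u.1 i).det = 1) :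
    Commute (rf u) (eR i) := by
  set a := u.1 i with ha
  -- normalise the `i` coordinate
  set v : ι → M2 F := fun k => if k = i then 0 else u.1 k * bar a with hv
  set δ : ι → M2 F := (dv i : UVec ι F).1 with hδ
  have hvi : v i = 0 := if_pos rfl
  have hvne : ∀ k, k ≠ i → v k = u.1 k * bar a := fun k hk => if_neg hk
  have hu' : (fun k => u.1 k * bar a) = δ + v := by
    funext k
    by_cases hk : k = i
    · subst hk; rw [Pi.add_apply, hvi, add_zero, hδ, dv_same, ← ha, mul_bar, hd, one_smul]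
    · rw [Pi.add_apply, hvne k hk, hδ, dv_ne hk, zero_add]
  have huu : outer u.1 1 u.1 = outer (δ + v) 1 (δ + v) := by
    rw [← hu', outer_smul_left, outer_smul_right, mul_one, bar_bar, bar_mul_self, hd, one_smul]
  have hδδ : inn δ δ = 1 := (dv i : UVec ι F).2
  have hδv : inn δ v = 0 := by
    rw [inn, Finset.sum_eq_single i (fun k _ hk => by rw [hδ, dv_ne hk, bar_zero, zero_mul])
      (fun h => absurd (Finset.mem_univ i) h), hvi, mul_zero]
  have hvδ : inn v δ = 0 := by
    rw [inn, Finset.sum_eq_single i (fun k _ hk => by rw [hδ, dv_ne hk, mul_zero])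
      (fun h => absurd (Finset.mem_univ i) h), hvi, bar_zero, zero_mul]
  have hdsum : ∑ k, (v k).det = 0 := by
    have h1 : ∀ k, (v k).det = (u.1 k).det - if k = i then 1 else 0 := by
      intro k
      by_cases hk : k = i
      · subst hk; rw [hvi, Matrix.det_zero, if_pos rfl, ← ha, hd, sub_self]
      · rw [hvne k hk, Matrix.det_mul, det_bar, hd, mul_one, if_neg hk, sub_zero]
    rw [Finset.sum_congr rfl fun k _ => h1 k, Finset.sum_sub_distrib, sum_det, Finset.sum_ite_eq',
      if_pos (Finset.mem_univ i), sub_self]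
  have hvv : inn v v = 0 := by rw [inn_self, hdsum, zero_smul]
  have hA : mat (eR i * rf u) = dM δ v := by
    rw [mat_mul, show (eR i : GU ι F) = rf (dv i) from rfl, mat_rf_outer, mat_rf_outer, huu, ← hδ]
    simp only [dM, outer_add_left, outer_add_right, mul_sub, sub_mul, mul_add, smul_add, smul_mul_assoc,
      mul_smul_comm, one_mul, mul_one, outer_mul_outer, hδδ, hδv, zero_mul, mul_zero, outer_zero, smul_zero,
      add_zero, smul_smul]
    abel
  have hAX : eR i * rf u ∈ X := mul_mem (hG.contain i hi _ D.neg) hyX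
  -- the commutators
  have key : ∀ c : SL(2, F), c ∈ Q → (c : M2 F).trace = 0 →
      ∃ g ∈ X, ∀ k l, mat g k l = (if k = l then 1 else 0) + (8 : F) • (v k * c * bar (v l)) := by
    intro c hc htr
    set w : ι → M2 F := fun k => v k * c with hw
    set s' := single i c⁻¹
    have hs' : mat s' = Matrix.diagonal fun k => ((Pi.mulSingle i c⁻¹ : ι → SL(2, F)) k : M2 F) :=
      (congrArg mat (single_eq_diag i c⁻¹)).trans (mat_diagG _)
    have hs1 : mat s' *ᵥ δ = fun k => δ k * bar (c : M2 F) := by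
      funext k
      rw [hs', Matrix.mulVec_diagonal]
      by_cases hk : k = i
      · subst hk; rw [Pi.mulSingle_eq_same, hδ, dv_same, mul_one, one_mul, coe_inv_eq_bar]
      · rw [hδ, dv_ne hk, mul_zero, zero_mul]
    have hs2 : mat s' *ᵥ v = v := by
      funext k
      rw [hs', Matrix.mulVec_diagonal]
      by_cases hk : k = i
      · subst hk; rw [hvi, mul_zero]
      · rw [Pi.mulSingle_eq_of_ne hk, Matrix.SpecialLinearGroup.coe_one, one_mul]
    have hB : mat (s' * (eR i * rf u) * s'⁻¹) = dM δ w := by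
      rw [mat_mul, mat_mul s', mat_inv, hA]
      simp only [dM, mul_add, add_mul, mul_sub, sub_mul, smul_mul_assoc, mul_smul_comm, mul_one,
        conj_outer, hs1, hs2, mat_mul_hT, hw, outer_smul_left, outer_smul_right, bar_bar, one_mul,
        coe_mul_bar]
    have i1 : inn v w = 0 := by rw [hw, inn_smul_right, hvv, zero_mul]
    have i2 : inn w v = 0 := by rw [hw, inn_smul_left, hvv, mul_zero]
    have i3 : inn w w = 0 := by rw [hw, inn_smul_left, inn_smul_right, hvv, zero_mul, mul_zero]
    have i4 : inn δ w = 0 := by rw [hw, inn_smul_right, hδv, zero_mul]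
    have i5 : inn w δ = 0 := by rw [hw, inn_smul_left, hvδ, mul_zero]
    set A := eR i * rf u
    set B := s' * A * s'⁻¹
    have hBX : B ∈ X := mul_mem (mul_mem (hG.contain i hi _ (inv_mem hc)) hAX)
      (inv_mem (hG.contain i hi _ (inv_mem hc)))
    refine ⟨A * B * (B * A)⁻¹, mul_mem (mul_mem hAX hBX) (inv_mem (mul_mem hBX hAX)), fun k l => ?_⟩
    have hg : mat (A * B * (B * A)⁻¹) = 1 - (4 : ℤ) • outer v 1 w + (4 : ℤ) • outer w 1 v := by
      rw [mat_mul, mat_mul A, hA, hB, dM_mul hδδ hδv hvδ i4 i5 hvv i3 i1 i2, mul_assoc, ← hA, ← hB,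
        ← mat_mul, ← mat_mul, mul_inv_cancel, mat_one, mul_one]
    rw [hg, hw, outer_smul_left, outer_smul_right, one_mul, mul_one, bar_eq_neg_of_trace htr]
    simp only [Matrix.add_apply, Matrix.sub_apply, Matrix.smul_apply, Matrix.one_apply, outer_apply,
      mul_neg, neg_mul]
    module
  have h8 : (8 : F) ≠ 0 := by
    rw [show (8 : F) = 2 * 2 * 2 by norm_num]
    exact mul_ne_zero (mul_ne_zero h2 h2) h2
  have hv0 : ∀ k ∉ s, v k = 0 := fun k hk => by
    rw [hvne k fun h => hk (h ▸ hi), hu0 k hk, zero_mul]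
  have hoff : ∀ c : SL(2, F), c ∈ Q → (c : M2 F).trace = 0 →
      ∀ k l, k ≠ l → v k * c * bar (v l) = 0 := by
    intro c hc htr k l hkl
    obtain ⟨g, hgX, hg⟩ := key c hc htr
    by_cases hl : l ∈ s
    swap
    · rw [hv0 l hl, bar_zero, mul_zero]
    have hgi : Commute g (eR i) := (commute_eR_iff h2).mpr fun m hm => by
      rw [hg, hg, if_neg hm, if_neg (Ne.symm hm), hvi, bar_zero, mul_zero, zero_mul, zero_mul, smul_zero,
        add_zero]
      exact ⟨rfl, rfl⟩
    obtain ⟨b, hb⟩ := hstep g hgX hgi l hl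
    have hcol := (conj_eR_iff h2).mp hb
    have hbl : b = l := by
      by_contra hne
      have e := hcol l (Ne.symm hne)
      rw [hg, if_pos rfl] at e
      have t : (v l * (c : M2 F) * bar (v l)).trace = 0 := by
        rw [Matrix.trace_mul_comm, ← mul_assoc, bar_mul_self, smul_mul_assoc, one_mul, Matrix.trace_smul, htr,
          smul_zero]
      have := congrArg Matrix.trace e
      rw [Matrix.trace_add, Matrix.trace_smul, t, smul_zero, add_zero, Matrix.trace_one, Matrix.trace_zero,
        Fintype.card_fin] at this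
      exact h2 (by exact_mod_cast this)
    subst hbl
    have e := hcol k hkl
    rw [hg, if_neg hkl, zero_add] at e
    exact (smul_eq_zero.mp e).resolve_left h8
  have hone : ∀ k l, k ≠ l → v k = 0 ∨ v l = 0 := by
    intro k l hkl
    refine (D.basis.eq_zero_or_eq_zero h2 (hoff i₀ D.mi (D.basis.tr_i h2) k l hkl)
      (hoff j₀ D.mj (D.basis.tr_j h2) k l hkl) ?_).imp_right bar_eq_zero.mp
    simpa using hoff (i₀ * j₀) (mul_mem D.mi D.mj) (by simpa using D.basis.tr_k h2) k l hkl
  by_cases hvz : ∀ k, v k = 0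
  · refine (commute_rf_eR_iff h2).mpr fun k hk => ?_
    rw [← ha, ← hvne k hk, hvz k]
  exfalso
  simp only [not_forall] at hvz
  obtain ⟨k, hk⟩ := hvz
  have hothers : ∀ l, l ≠ k → v l = 0 := fun l hl => (hone k l (Ne.symm hl)).resolve_left hk
  have hdk : (v k).det = 0 := by
    rw [Finset.sum_eq_single k (fun l _ hl => by rw [hothers l hl, Matrix.det_zero])
      (fun h => absurd (Finset.mem_univ k) h)] at hdsum
    exact hdsum
  have hks : k ∈ s := by_contra fun h => hk (hv0 k h)
  have hN : ∀ c : SL(2, F), c ∈ Q → (c : M2 F).trace = 0 → v k * c * bar (v k) = 0 := by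
    intro c hc htr
    obtain ⟨g, hgX, hg⟩ := key c hc htr
    set N : M2 F := v k * c * bar (v k) with hN
    have hNN : N * N = 0 := by
      rw [hN, show v k * (c : M2 F) * bar (v k) * (v k * c * bar (v k)) =
        v k * c * (bar (v k) * v k) * c * bar (v k) by simp only [mul_assoc], bar_mul_self, hdk]
      simp
    have htrN : N.trace = 0 := by
      rw [hN, Matrix.trace_mul_comm, ← mul_assoc, bar_mul_self, hdk, zero_smul, zero_mul, Matrix.trace_zero]
    have hdN : N.det = 0 := by rw [hN, Matrix.det_mul, Matrix.det_mul, hdk, zero_mul, zero_mul]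
    have hdet : (1 + (8 : F) • N).det = 1 := by
      rw [det_one_add, Matrix.trace_smul, htrN, smul_zero, Matrix.det_smul, hdN, mul_zero, add_zero, add_zero]
    obtain ⟨γ', hγ'⟩ : ∃ γ' : SL(2, F), (γ' : M2 F) = 1 + (8 : F) • N := ⟨⟨_, hdet⟩, rfl⟩
    have hgs : g = single k γ' := by
      refine mat_injective (Matrix.ext fun m n => ?_)
      rw [hg, single_eq_diag, mat_diagG, Matrix.diagonal_apply]
      by_cases hm : m = k
      · subst hm
        by_cases hn : m = n
        · subst hn; rw [if_pos rfl, if_pos rfl, Pi.mulSingle_eq_same, hγ']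
        · rw [if_neg hn, if_neg hn, hothers n (Ne.symm hn), bar_zero, mul_zero, smul_zero, add_zero]
      · rw [hothers m hm, zero_mul, zero_mul, smul_zero, add_zero, Pi.mulSingle_eq_of_ne hm]
        split_ifs <;> rfl
    have h := congrArg Subtype.val (D.pow _ (hG.cap k hks _ (hgs ▸ hgX)))
    rw [Matrix.SpecialLinearGroup.coe_pow, Matrix.SpecialLinearGroup.coe_one] at h
    rw [hγ'] at h
    rw [one_add_pow_of_sq (by rw [smul_mul_smul_comm, hNN, smul_zero]), add_eq_left, smul_smul,
      smul_eq_zero] at h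
    exact h.resolve_left (mul_ne_zero (by exact_mod_cast h8) h8)
  refine hk ((D.basis.eq_zero_or_eq_zero h2 (hN i₀ D.mi (D.basis.tr_i h2))
    (hN j₀ D.mj (D.basis.tr_j h2)) ?_).elim id bar_eq_zero.mp)
  simpa using hN (i₀ * j₀) (mul_mem D.mi D.mj) (by simpa using D.basis.tr_k h2)

/-- An odd element of the group acting on the complementary line is trivial. -/
theorem gamma_eq_one (h2 : (2 : F) ≠ 0) (D : Q8Data Q i₀ j₀) (hG : Good Q X s) {i : ι} (hi : i ∈ s)
    (hstep : ∀ g ∈ X, Commute g (eR i) → ∀ k ∈ s, ∃ b, g * eR k * g⁻¹ = eR b)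
    {w : UVec ι F} (hwi : w.1 i = 0) (hw0 : ∀ k ∉ s, w.1 k = 0) {γ : SL(2, F)} (hγ : sig w γ ∈ X)
    (hodd : Odd (orderOf γ)) : γ = 1 := by
  set g : M2 F := (γ : M2 F) - 1 with hg
  set x := sig w γ
  have hentry : ∀ k l, mat x k l = (if k = l then 1 else 0) + w.1 k * g * bar (w.1 l) :=
    fun k l => sigM_apply w.1 _ k l
  have hxi : Commute x (eR i) := (commute_eR_iff h2).mpr fun m hm => by
    rw [hentry, hentry, if_neg hm, if_neg (Ne.symm hm), hwi, bar_zero, mul_zero, zero_mul, zero_mul, add_zero]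
    exact ⟨rfl, rfl⟩
  have hscalar : ∀ l, w.1 l * g * bar (w.1 l) = -1 → γ = 1 := by
    intro l e
    have hdet : (w.1 l).det ≠ 0 := by
      intro h0
      have := congrArg Matrix.det e
      rw [Matrix.det_mul, Matrix.det_mul, h0, zero_mul, zero_mul, Matrix.det_neg, Matrix.det_one] at this
      simp at this
    have e' : ((w.1 l).det * (w.1 l).det) • g = (-(w.1 l).det) • (1 : M2 F) := by
      have := congrArg (fun z => bar (w.1 l) * z * w.1 l) e
      simp only [mul_neg, neg_mul, mul_one, bar_mul_self] at this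
      rw [show bar (w.1 l) * (w.1 l * g * bar (w.1 l)) * w.1 l =
        (bar (w.1 l) * w.1 l) * g * (bar (w.1 l) * w.1 l) by simp only [mul_assoc], bar_mul_self] at this
      rw [smul_mul_assoc, one_mul, smul_mul_smul_comm, mul_one] at this
      rw [this, neg_smul]
    have hgs : g = ((-(w.1 l).det) / ((w.1 l).det * (w.1 l).det)) • (1 : M2 F) := by
      rw [div_eq_inv_mul, ← smul_smul, ← e', smul_smul, inv_mul_cancel₀ (mul_ne_zero hdet hdet), one_smul]
    have hc : γ ∈ Subgroup.center SL(2, F) := Subgroup.mem_center_iff.mpr fun y => Subtype.ext (by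
      show (y : M2 F) * γ = γ * y
      rw [show (γ : M2 F) = g + 1 by rw [hg, sub_add_cancel], hgs]
      simp [mul_add, add_mul])
    rcases PSL2.mem_center_iff'.mp hc with h | h
    · exact h
    · rw [h, orderOf_eq_prime (show (-1 : SL(2, F)) ^ 2 = 1 by simp) (PronormalOdd.neg_one_ne_one' h2)] at hodd
      exact absurd hodd (by decide)
  by_cases hz : ∃ l, w.1 l * g * bar (w.1 l) = -1
  · obtain ⟨l, hl⟩ := hz; exact hscalar l hl
  simp only [not_exists] at hz
  have hoff : ∀ k l, k ≠ l → w.1 k * g * bar (w.1 l) = 0 := by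
    intro k l hkl
    by_cases hl : l ∈ s
    swap
    · rw [hw0 l hl, bar_zero, mul_zero]
    obtain ⟨b, hb⟩ := hstep x hγ hxi l hl
    have hcol := (conj_eR_iff h2).mp hb
    have hbl : b = l := by
      by_contra hne
      have e := hcol l (Ne.symm hne)
      rw [hentry, if_pos rfl] at e
      exact hz l (eq_neg_of_add_eq_zero_right e)
    subst hbl
    have e := hcol k hkl
    rwa [hentry, if_neg hkl, zero_add] at e
  obtain ⟨c, hc⟩ := exists_diag_of_forall_commute h2 (g := x) fun a => (commute_eR_iff h2).mpr fun m hm => by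
    rw [hentry, hentry, if_neg hm, if_neg (Ne.symm hm), hoff m a hm, hoff a m (Ne.symm hm), add_zero]
    exact ⟨rfl, rfl⟩
  have hck : ∀ k, (c k : M2 F) = 1 + w.1 k * g * bar (w.1 k) := fun k => by
    have := congrFun (congrFun (congrArg mat hc) k) k
    rw [hentry, if_pos rfl, mat_diagG, Matrix.diagonal_apply_eq] at this
    exact this.symm
  have hcs : ∀ k ∉ s, c k = 1 := fun k hk => Subtype.ext (by
    rw [hck, hw0 k hk, bar_zero, mul_zero, add_zero, Matrix.SpecialLinearGroup.coe_one])
  have hco : ∀ k, Odd (orderOf (c k)) := fun k => by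
    have h1 : Odd (orderOf c) := by
      rwa [← orderOf_injective diagG diagG_injective c, ← hc, orderOf_injective (sig w) (sig_injective w)]
    exact h1.of_dvd_nat (orderOf_map_dvd (Pi.evalMonoidHom (fun _ : ι => SL(2, F)) k) c)
  have hc3 : ∀ k, c k ^ 3 = 1 := fun k => by
    by_cases hk : k ∈ s
    · refine D.odd3 _ (fun q hq => hG.cap k hk _ ?_) (hco k)
      have : x * single k q * x⁻¹ = single k (c k * q * (c k)⁻¹) := by
        rw [hc, single_eq_diag, single_eq_diag, ← map_inv, ← map_mul, ← map_mul]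
        congr 1
        funext m
        by_cases hm : m = k
        · subst hm; simp
        · simp [Pi.mulSingle_eq_of_ne hm]
      rw [← this]
      exact mul_mem (mul_mem hγ (hG.contain k hk q hq)) (inv_mem hγ)
    · rw [hcs k hk, one_pow]
  by_cases hc1 : ∀ k, c k = 1
  · refine sig_injective w ?_
    rw [map_one]
    show x = 1
    rw [hc, show c = 1 from funext hc1, map_one]
  simp only [not_forall] at hc1
  obtain ⟨k, hk⟩ := hc1
  have hks : k ∈ s := by_contra fun h => hk (hcs k h)
  by_cases hl : ∀ l, l ≠ k → c l = 1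
  · exfalso
    refine hk (D.eq_one (hG.cap k hks _ ?_) (hco k))
    have : c = Pi.mulSingle k (c k) := funext fun l => by
      by_cases h : l = k
      · subst h; simp
      · simp [Pi.mulSingle_eq_of_ne h, hl l h]
    rw [single_eq_diag, ← this, ← hc]
    exact hγ
  exfalso
  simp only [not_forall] at hl
  obtain ⟨l, hlk, hl⟩ := hl
  have hAk : w.1 k * g * bar (w.1 k) ≠ 0 := fun h => hk (Subtype.ext (by
    rw [hck, h, add_zero, Matrix.SpecialLinearGroup.coe_one]))
  have hAl : w.1 l * g * bar (w.1 l) ≠ 0 := fun h => hl (Subtype.ext (by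
    rw [hck, h, add_zero, Matrix.SpecialLinearGroup.coe_one]))
  by_cases hgd : g.det = 0
  · exact mul_mul_ne_zero hgd hAk hAl (hoff k l (Ne.symm hlk))
  have hwk : (w.1 k).det = 0 := by
    by_contra hne
    have h := hoff k l (Ne.symm hlk)
    rw [mul_assoc] at h
    exact hAl (by rw [eq_zero_of_unit_mul hgd (eq_zero_of_unit_mul hne h), mul_zero])
  set N : M2 F := (c k : M2 F) - 1 with hNdef
  have hNd : N.det = 0 := by
    rw [hNdef, hck, add_sub_cancel_left, Matrix.det_mul, Matrix.det_mul, hwk, zero_mul, zero_mul]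
  have hNN : N * N = 0 := by
    have htr : (c k : M2 F).trace = 2 := by
      have h := det_sub_one (c k : M2 F)
      rw [← hNdef, hNd, (c k).2] at h
      linear_combination h
    have h := sq_eq_smul_sub (c k : M2 F)
    rw [htr, (c k).2, one_smul, two_smul] at h
    rw [hNdef, sub_mul, mul_sub, mul_one, one_mul, h]
    abel
  have h3 : (3 : F) = 0 := by
    have h := congrArg Subtype.val (hc3 k)
    rw [Matrix.SpecialLinearGroup.coe_pow, Matrix.SpecialLinearGroup.coe_one,
      show (c k : M2 F) = 1 + N by rw [hNdef, add_sub_cancel], one_add_pow_of_sq hNN, add_eq_left,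
      smul_eq_zero] at h
    refine (show ((3 : ℕ) : F) = 3 by norm_num) ▸ h.resolve_right fun h0 => hAk ?_
    rw [hNdef, hck, add_sub_cancel_left] at h0
    exact h0
  have hγ3 : (γ : M2 F) * γ * γ = 1 := by
    have : sig w (γ ^ 3) = 1 := by
      rw [map_pow]
      show x ^ 3 = 1
      rw [hc, ← map_pow, show c ^ 3 = 1 from funext fun m => hc3 m, map_one]
    rw [← map_one (sig w)] at this
    have := congrArg Subtype.val (sig_injective w this)
    simpa [pow_succ] using this
  refine hgd (pow_eq_zero_iff (n := 3) (by norm_num) |>.mp ?_)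
  rw [← Matrix.det_pow]
  have : g ^ 3 = ((γ : M2 F) * γ * γ - 1) + (3 : F) • ((γ : M2 F) - γ * γ) := by
    simp only [hg, pow_succ, pow_zero, one_mul, sub_mul, mul_sub, mul_one]
    module
  rw [this, hγ3, h3, sub_self, zero_smul, add_zero, Matrix.det_zero]

/-- The invertible case. -/
theorem unit_case (h2 : (2 : F) ≠ 0) (D : Q8Data Q i₀ j₀) (hG : Good Q X s) {i : ι} (hi : i ∈ s)
    (hstep : ∀ g ∈ X, Commute g (eR i) → ∀ k ∈ s, ∃ b, g * eR k * g⁻¹ = eR b)
    {u : UVec ι F} (hyD : InD X s (rf u)) (hyX : rf u ∈ X) (hu0 : ∀ k ∉ s, u.1 k = 0)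
    (hd : (u.1 i).det ≠ 1) : Commute (rf u) (eR i) := by
  set ν : F := 1 - (u.1 i).det with hν
  have hν0 : ν ≠ 0 := sub_ne_zero.mpr (Ne.symm hd)
  obtain ⟨c, hc⟩ := exists_det_eq ν⁻¹
  set v : ι → M2 F := fun k => if k = i then 0 else u.1 k with hv
  set δ : ι → M2 F := (dv i : UVec ι F).1 with hδ
  set δ' : ι → M2 F := fun k => v k * c with hδ'
  have hvi : v i = 0 := if_pos rfl
  have hvne : ∀ k, k ≠ i → v k = u.1 k := fun k hk => if_neg hk
  have hδδ : inn δ δ = 1 := (dv i : UVec ι F).2
  have hδv : inn δ v = 0 := by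
    rw [inn, Finset.sum_eq_single i (fun k _ hk => by rw [hδ, dv_ne hk, bar_zero, zero_mul])
      (fun h => absurd (Finset.mem_univ i) h), hvi, mul_zero]
  have hvδ : inn v δ = 0 := by
    rw [inn, Finset.sum_eq_single i (fun k _ hk => by rw [hδ, dv_ne hk, mul_zero])
      (fun h => absurd (Finset.mem_univ i) h), hvi, bar_zero, zero_mul]
  have hvv : inn v v = ν • (1 : M2 F) := by
    rw [inn_self]
    congr 1
    have h1 : ∀ k, (v k).det = (u.1 k).det - if k = i then (u.1 i).det else 0 := by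
      intro k
      by_cases hk : k = i
      · subst hk; rw [hvi, Matrix.det_zero, if_pos rfl, sub_self]
      · rw [hvne k hk, if_neg hk, sub_zero]
    rw [Finset.sum_congr rfl fun k _ => h1 k, Finset.sum_sub_distrib, sum_det, Finset.sum_ite_eq',
      if_pos (Finset.mem_univ i)]
  have hδ'δ' : inn δ' δ' = 1 := by
    rw [hδ', inn_smul_left, inn_smul_right, hvv, smul_mul_assoc, one_mul, mul_smul_comm, bar_mul_self, hc,
      smul_smul, mul_inv_cancel₀ hν0, one_smul]
  have e01 : inn δ δ' = 0 := by rw [hδ', inn_smul_right, hδv, zero_mul]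
  have e10 : inn δ' δ = 0 := by rw [hδ', inn_smul_left, hvδ, mul_zero]
  let M : Frame F ι (Fin 2) := ⟨Matrix.of fun k r => (![δ, δ'] : Fin 2 → ι → M2 F) r k, by
    refine Matrix.ext fun r t => ?_
    have : (hT (Matrix.of fun k r => (![δ, δ'] : Fin 2 → ι → M2 F) r k) *
        Matrix.of fun k r => (![δ, δ'] : Fin 2 → ι → M2 F) r k) r t =
        inn ((![δ, δ'] : Fin 2 → ι → M2 F) r) ((![δ, δ'] : Fin 2 → ι → M2 F) t) := by
      simp only [Matrix.mul_apply, hT_apply, Matrix.of_apply, inn]
    rw [this]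
    fin_cases r <;> fin_cases t <;> simp [hδδ, hδ'δ', e01, e10]⟩
  have hM : ∀ x : Fin 2 → M2 F, ∀ k, (M.1 *ᵥ x) k = δ k * x 0 + δ' k * x 1 := by
    intro x k
    simp [M, Matrix.mulVec, dotProduct, Fin.sum_univ_two]
  let u₀ : UVec (Fin 2) F := ⟨![u.1 i, ν • bar c], by
    simp only [inn, Fin.sum_univ_two, Matrix.cons_val_zero, Matrix.cons_val_one, bar_smul, bar_bar,
      smul_mul_smul_comm, bar_mul_self, mul_bar, hc, smul_smul]
    rw [← add_smul, Matrix.det_smul, det_bar, hc, Fintype.card_fin,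
      show (u.1 i).det + ν ^ 2 * ν⁻¹ = 1 by rw [pow_two, mul_assoc, mul_inv_cancel₀ hν0, hν]; ring,
      one_smul]⟩
  have hu₀ : embV M u₀ = u := Subtype.ext (funext fun k => by
    show (M.1 *ᵥ ![u.1 i, ν • bar c]) k = u.1 k
    rw [hM]
    simp only [Matrix.cons_val_zero, Matrix.cons_val_one]
    by_cases hk : k = i
    · subst hk; rw [hδ, dv_same, one_mul, hδ']; simp only [hvi, zero_mul, add_zero]
    · rw [hδ, dv_ne hk, zero_mul, zero_add, hδ']
      simp only [hvne k hk, mul_smul_comm, mul_assoc, mul_bar, hc, smul_smul, mul_inv_cancel₀ hν0, one_smul,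
        mul_one])
  have hd0 : embV M (dv 0) = dv i := Subtype.ext (funext fun k => by
    show (M.1 *ᵥ (dv 0 : UVec (Fin 2) F).1) k = _
    rw [hM, dv_same, dv_ne (show (1 : Fin 2) ≠ 0 by decide), mul_one, mul_zero, add_zero])
  have hd1 : ∀ k, (embV M (dv 1)).1 k = δ' k := fun k => by
    show (M.1 *ᵥ (dv 1 : UVec (Fin 2) F).1) k = _
    rw [hM, dv_same, dv_ne (show (0 : Fin 2) ≠ 1 by decide), mul_one, mul_zero, zero_add]
  have hemb0 : ∀ q, emb M (single 0 q) = single i q := fun q => by
    rw [single, emb_sig, hd0]; rfl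
  have he : emb M (eR 0) = eR i := by rw [eR_eq_single, hemb0]; rfl
  have hy : emb M (rf u₀) = rf u := by rw [rf, emb_sig, hu₀]; rfl
  have hcomm := commute_two_block h2 D (X.comap (emb M)) u₀
    (by rw [Subgroup.mem_comap, he]; exact hG.contain i hi _ D.neg)
    (by rw [Subgroup.mem_comap, hy]; exact hyX)
    (fun q hq => by rw [Subgroup.mem_comap, hemb0]; exact hG.contain i hi q hq)
    (fun g hg => hG.cap i hi g (hemb0 g ▸ hg))
    (fun z hz w hw h4 => by
      have hwD : InD X s (emb M (rf w)) := by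
        rcases hw with rfl | rfl
        · rw [show rf (dv 0 : UVec (Fin 2) F) = eR 0 from rfl, he]; exact inD_eR hi
        · rw [hy]; exact hyD
      have h := congrArg (emb M) h4
      rw [map_pow, map_mul, map_mul, map_mul, map_inv, he, map_one] at h
      have := hG.comm _ _ (hwD.conj hz) (inD_eR hi) h
      refine emb_injective M ?_
      simp only [map_mul, map_inv, he]
      exact this.eq)
    (fun γ hγ ho => by
      rw [Subgroup.mem_comap, single, emb_sig] at hγ
      refine gamma_eq_one h2 D hG hi hstep (by rw [hd1, hδ']; simp only [hvi, zero_mul]) (fun k hk => ?_) hγ ho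
      rw [hd1, hδ']
      simp only [hvne k fun h => hk (h ▸ hi), hu0 k hk, zero_mul])
  have h := hcomm.map (emb M)
  rwa [hy, he] at h

/-- The frame theorem. -/
theorem frame (h2 : (2 : F) ≠ 0) (D : Q8Data Q i₀ j₀) : ∀ (n : ℕ) (s : Finset ι), s.card = n →
    ∀ X : Subgroup (GU ι F), Good Q X s → ∀ x ∈ X, ∀ a ∈ s, ∃ b, x * eR a * x⁻¹ = eR b := by
  intro n
  induction n using Nat.strong_induction_on with
  | _ n ih =>
  intro s hs X hG x hx a ha
  set u : UVec ι F := x • dv a
  have hy : x * eR a * x⁻¹ = rf u := rf_conj x (dv a)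
  have hyD : InD X s (rf u) := ⟨x, hx, a, ha, hy.symm⟩
  have hyX : rf u ∈ X := hy ▸ mul_mem (mul_mem hx (hG.contain a ha _ D.neg)) (inv_mem hx)
  have hu0 : ∀ k ∉ s, u.1 k = 0 := fun k hk => by
    rw [smul_dv_apply]
    exact ((commute_eR_iff h2).mp (commute_of_fix (hG.fix x hx k hk)) a fun h => hk (h ▸ ha)).2
  have hall : ∀ i, Commute (rf u) (eR i) := by
    intro i
    by_cases hi : i ∈ s
    swap
    · exact commute_of_fix (hG.fix _ hyX i hi)
    have hstep : ∀ g ∈ X, Commute g (eR i) → ∀ k ∈ s, ∃ b, g * eR k * g⁻¹ = eR b :=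
      fun g hg hgc k hk => mono_step h2 D hG hi
        (fun X' hX' => ih (s.erase i).card (hs ▸ Finset.card_erase_lt_of_mem hi) _ rfl X' hX') hg hgc hk
    by_cases hd : (u.1 i).det = 1
    · exact null_case h2 D hG hi hstep hyX hu0 hd
    · exact unit_case h2 D hG hi hstep hyD hyX hu0 hd
  obtain ⟨b, hb⟩ := exists_eR_of_forall_commute h2 hall
  exact ⟨b, hy.trans hb⟩

end

end Cfsg.Agent.PronSymp
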