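/-
The Sylow 2-subgroup of `SL_2(q)` for `q ≡ ±3 (mod 8)`.

* `Gen8`, `exists_gen8`
* `eq_of_normalized` : an overgroup with no further normalising elements invariant under the rotation is `Q`
-/
import Cfsg.Agent.Lib.PronSymp.Block

set_option autoImplicit false
set_option linter.unusedSectionVars false

namespace Cfsg.Agent.PronSymp

open Matrix Cfsg.Agent.S4270
open scoped MatrixGroups

variable {F : Type*} [Field F] [Finite F]

theorem two_ne_zero_of_odd (hodd : Odd (Nat.card F)) : (2 : F) ≠ 0 := by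
  haveI := Fintype.ofFinite F
  obtain ⟨m, hm⟩ := hodd
  exact PSL2.two_ne_zero_of_dvd ⟨m, by omega⟩

theorem two_lt_card_sylow (hodd : Odd (Nat.card F)) (Q : Sylow 2 SL(2, F)) :
    2 < Nat.card (Q : Subgroup SL(2, F)) := by
  obtain ⟨k, hk, ⟨e⟩⟩ := GLOrder.sylow_two_SL_two hodd Q
  haveI : NeZero (2 ^ k) := ⟨pow_ne_zero _ two_ne_zero⟩
  rw [Nat.card_congr e.toEquiv, Nat.card_eq_fintype_card, QuaternionGroup.card]
  have := Nat.one_le_two_pow (n := k)
  omega

theorem neg_one_mem_sylow [Fact (Nat.Prime 2)] (Q : Sylow 2 SL(2, F)) :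
    (-1 : SL(2, F)) ∈ (Q : Subgroup SL(2, F)) :=
  PronormalOdd.mem_sylow_of_normalizes Q (Subgroup.mem_normalizer_fintype fun q hq => by simpa using hq)
    ⟨1, by simp⟩

/-- Two generators of the quaternion group. -/
structure Gen8 (Q : Subgroup SL(2, F)) (i j : SL(2, F)) : Prop where
  data : Q8Data Q i j
  gen : ∀ x ∈ Q, ∃ n : ℕ, x = i ^ n ∨ x = j * i ^ n
  full : ∀ M : Subgroup SL(2, F), Q < M → M ≤ Subgroup.normalizer (Q : Set SL(2, F)) →
    Subgroup.normalizer (Q : Set SL(2, F)) ≤ M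
  comm : ∀ g h : SL(2, F), g ∈ Subgroup.normalizer (Q : Set SL(2, F)) →
    h ∈ Subgroup.normalizer (Q : Set SL(2, F)) → g * h * g⁻¹ * h⁻¹ ∈ Q

theorem exists_gen8 [Fact (Nat.Prime 2)] (hodd : Odd (Nat.card F))
    (h8 : Nat.card F % 8 = 3 ∨ Nat.card F % 8 = 5) (Q : Sylow 2 SL(2, F)) :
    ∃ i j, Gen8 (Q : Subgroup SL(2, F)) i j := by
  classical
  haveI := Fintype.ofFinite F
  have h2 := two_ne_zero_of_odd hodd
  have hQ8 := PronormalOdd.card_sylow_of_eq_eight h8 Q
  obtain ⟨k, hk, ⟨e⟩⟩ := GLOrder.sylow_two_SL_two hodd Q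
  haveI : NeZero (2 ^ k) := ⟨pow_ne_zero _ two_ne_zero⟩
  have hk1 : k = 1 := by
    have h := Nat.card_congr e.toEquiv
    rw [hQ8, Nat.card_eq_fintype_card, QuaternionGroup.card] at h
    rcases Nat.lt_or_ge k 2 with h' | h'
    · omega
    · have := Nat.pow_le_pow_right two_pos h'
      omega
  subst hk1
  set i : SL(2, F) := (e.symm (QuaternionGroup.a 1) : SL(2, F)) with hi
  set j : SL(2, F) := (e.symm (QuaternionGroup.xa 0) : SL(2, F)) with hj
  have hpow : ∀ g ∈ (Q : Subgroup SL(2, F)), g ^ 8 = 1 := by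
    intro g hg
    have := pow_card_eq_one' (x := (⟨g, hg⟩ : (Q : Subgroup SL(2, F))))
    rw [hQ8] at this
    exact congrArg Subtype.val this
  have hsq : ∀ g : QuaternionGroup (2 ^ 1), orderOf g = 4 →
      ((e.symm g : (Q : Subgroup SL(2, F))) : SL(2, F)) * (e.symm g : (Q : Subgroup SL(2, F))) = -1 := by
    intro g hg
    have h4 : orderOf ((e.symm g : (Q : Subgroup SL(2, F))) : SL(2, F)) = 4 := by
      rw [Subgroup.orderOf_coe, MulEquiv.orderOf_eq, hg]
    generalize ((e.symm g : (Q : Subgroup SL(2, F))) : SL(2, F)) = y at h4 ⊢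
    refine (GLOrder.SL2_eq_one_or_neg_one_of_sq h2 ?_).resolve_left fun h => ?_
    · rw [← pow_two, ← pow_two, ← pow_mul]
      exact orderOf_dvd_iff_pow_eq_one.1 (by rw [h4])
    · have := Nat.le_of_dvd two_pos (orderOf_dvd_of_pow_eq_one (by rwa [pow_two] : y ^ 2 = 1))
      omega
  have hii : i * i = -1 := hsq _ (by rw [QuaternionGroup.orderOf_a_one]; norm_num)
  have hjj : j * j = -1 := hsq _ (QuaternionGroup.orderOf_xa _)
  have hij : i * j * (i * j) = -1 := by
    rw [hi, hj, ← Subgroup.coe_mul, ← map_mul, QuaternionGroup.a_mul_xa]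
    exact hsq _ (QuaternionGroup.orderOf_xa _)
  have hji : j * i = -(i * j) := by
    calc j * i = i⁻¹ * (i * j * (i * j)) * j⁻¹ := by group
      _ = -(i⁻¹ * j⁻¹) := by rw [hij, mul_neg_one, neg_mul]
      _ = _ := by
        rw [inv_eq_of_mul_eq_one_right (show i * -i = 1 by rw [mul_neg, hii, neg_neg]),
          inv_eq_of_mul_eq_one_right (show j * -j = 1 by rw [mul_neg, hjj, neg_neg]), neg_mul_neg]
  have hgen : ∀ x ∈ (Q : Subgroup SL(2, F)), ∃ n : ℕ, x = i ^ n ∨ x = j * i ^ n := by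
    intro x hx
    have hx' : x = (e.symm (e ⟨x, hx⟩) : SL(2, F)) := by simp
    rcases hg : e ⟨x, hx⟩ with n | n <;> rw [hg] at hx'
    · refine ⟨n.val, Or.inl ?_⟩
      rw [hx', hi, ← Subgroup.coe_pow, ← map_pow, QuaternionGroup.a_one_pow, ZMod.natCast_zmod_val]
    · refine ⟨n.val, Or.inr ?_⟩
      rw [hx', hi, hj, ← Subgroup.coe_pow, ← Subgroup.coe_mul, ← map_pow, QuaternionGroup.a_one_pow,
        ← map_mul, QuaternionGroup.xa_mul_a, zero_add, ZMod.natCast_zmod_val]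
  set N := Subgroup.normalizer ((Q : Subgroup SL(2, F)) : Set SL(2, F)) with hNdef
  have hcard : Nat.card N = 3 * 8 := by
    have h' := (S2431.result (by rwa [← Nat.card_eq_fintype_card]) Q).2.2
      (by rwa [← Nat.card_eq_fintype_card])
    rw [hNdef, ← hQ8]; exact h'
  have hrel3 : (Q : Subgroup SL(2, F)).relIndex N = 3 := by
    have h := Subgroup.card_mul_index ((Q : Subgroup SL(2, F)).subgroupOf N)
    rw [Nat.card_congr (Subgroup.subgroupOfEquivOfLe Subgroup.le_normalizer).toEquiv, hQ8, hcard] at h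
    show ((Q : Subgroup SL(2, F)).subgroupOf N).index = 3
    omega
  refine ⟨i, j, ⟨⟨hii, hjj, hji⟩, (e.symm _).2, (e.symm _).2, hpow, ?_⟩, hgen, ?_, ?_⟩
  · intro g hg ho
    have hgN : g ∈ N := Subgroup.mem_normalizer_fintype fun q hq => hg q hq
    have hd : orderOf g ∣ 3 * 8 := hcard ▸ Subgroup.orderOf_dvd_natCard N hgN
    refine orderOf_dvd_iff_pow_eq_one.mp (Nat.Coprime.dvd_of_dvd_mul_right ?_ hd)
    exact Nat.Coprime.pow_right 3 (Nat.coprime_two_right.mpr ho)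
  · intro M hQM hMN
    have hmul : (Q : Subgroup SL(2, F)).relIndex M * M.relIndex N = 3 := by
      rw [Subgroup.relIndex_mul_relIndex _ _ _ hQM.le hMN, hrel3]
    rcases (Nat.dvd_prime Nat.prime_three).mp ⟨_, hmul.symm⟩ with h | h
    · exact absurd (Subgroup.relIndex_eq_one.mp h) (not_le_of_gt hQM)
    · rw [h] at hmul
      have h1 : M.relIndex N = 1 := by omega
      exact Subgroup.relIndex_eq_one.mp h1
  · intro g h hg hh
    set QN := (Q : Subgroup SL(2, F)).subgroupOf N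
    haveI : QN.Normal := Subgroup.normal_in_normalizer
    have hcq : Nat.card (N ⧸ QN) = 3 := hrel3
    haveI : IsCyclic (N ⧸ QN) := isCyclic_of_prime_card (p := 3) hcq
    have hc := (IsCyclic.commutative (α := N ⧸ QN)).is_comm.comm (QuotientGroup.mk (s := QN) ⟨g, hg⟩) (QuotientGroup.mk ⟨h, hh⟩)
    rw [← QuotientGroup.mk_mul, ← QuotientGroup.mk_mul] at hc
    have hm := QuotientGroup.eq.mp hc.symm
    have hconj := Subgroup.Normal.conj_mem inferInstance _ hm (⟨h, hh⟩ * ⟨g, hg⟩ : N)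
    rw [Subgroup.mem_subgroupOf] at hconj
    simpa [mul_assoc] using hconj

/-- An overgroup of `Q` meeting its normaliser in `Q` and invariant under an odd element of the normaliser
outside `Q` equals `Q`. -/
theorem eq_of_normalized [Fact (Nat.Prime 2)] (hodd : Odd (Nat.card F)) (Q : Sylow 2 SL(2, F))
    {i j : SL(2, F)} (G8 : Gen8 (Q : Subgroup SL(2, F)) i j) {B : Subgroup SL(2, F)}
    (hQB : (Q : Subgroup SL(2, F)) ≤ B)
    (hB : Subgroup.normalizer ((Q : Subgroup SL(2, F)) : Set SL(2, F)) ⊓ B ≤ (Q : Subgroup SL(2, F)))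
    {b : SL(2, F)} (hb : b ∈ Subgroup.normalizer ((Q : Subgroup SL(2, F)) : Set SL(2, F)))
    (hbQ : b ∉ (Q : Subgroup SL(2, F))) (hbo : Odd (orderOf b)) (hbB : cj b B = B) :
    B = (Q : Subgroup SL(2, F)) := by
  classical
  have h2 := two_ne_zero_of_odd hodd
  obtain ⟨p, hchar⟩ := CharP.exists F
  haveI : Fact p.Prime := ⟨CharP.char_is_prime F p⟩
  have hp : p ≠ 2 := by
    rintro rfl
    exact h2 (by exact_mod_cast CharP.cast_eq_zero F 2)
  set Z := Subgroup.center SL(2, F)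
  have hcZ : ∀ z ∈ Z, z = 1 ∨ z = -1 := fun z hz => PSL2.mem_center_iff'.mp hz
  have hsq : ∀ s ∈ (Q : Subgroup SL(2, F)), s * s ∈ Z := by
    intro s hs
    have hgen := G8.gen s hs
    have hpw : ∀ n : ℕ, i ^ n * i ^ n ∈ Z := fun n => by
      rw [← pow_two, ← pow_mul, mul_comm, pow_mul, pow_two, G8.data.basis.ii]
      exact Z.pow_mem (PSL2.mem_center_iff'.mpr (Or.inr rfl)) n
    obtain ⟨n, rfl | rfl⟩ := hgen
    · exact hpw n
    · have hinv : j * i * j⁻¹ = i⁻¹ := by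
        rw [G8.data.basis.ji, mul_inv_eq_iff_eq_mul,
          inv_eq_of_mul_eq_one_right (show i * -i = 1 by rw [mul_neg, G8.data.basis.ii, neg_neg]), neg_mul]
      have hjn : j * i ^ n = (i ^ n)⁻¹ * j := by
        rw [← inv_pow, ← hinv, conj_pow, inv_mul_cancel_right]
      rw [show j * i ^ n * (j * i ^ n) = j * i ^ n * ((i ^ n)⁻¹ * j) by nth_rw 2 [hjn],
        mul_assoc, mul_inv_cancel_left, G8.data.basis.jj]
      exact PSL2.mem_center_iff'.mpr (Or.inr rfl)
  have hZQ : Z ≤ (Q : Subgroup SL(2, F)) := fun z hz => by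
    rcases hcZ z hz with rfl | rfl
    exacts [one_mem _, neg_one_mem_sylow Q]
  set Zb : Subgroup B := Z.subgroupOf B
  have hZbc : Zb ≤ Subgroup.center B := fun z hz => Subgroup.mem_center_iff.mpr fun w =>
    Subtype.ext (Subgroup.mem_center_iff.mp hz (w : SL(2, F)))
  set QB : Sylow 2 B := Q.subtype hQB
  let P : Sylow 2 (B ⧸ Zb) := QB.mapSurjective (QuotientGroup.mk'_surjective Zb)
  have hPmem : ∀ y : B, QuotientGroup.mk' Zb y ∈ (P : Subgroup (B ⧸ Zb)) ↔
      (y : SL(2, F)) ∈ (Q : Subgroup SL(2, F)) := by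
    intro y
    show QuotientGroup.mk' Zb y ∈ ((QB : Subgroup B).map (QuotientGroup.mk' Zb)) ↔ _
    constructor
    · rintro ⟨x, hx, hxy⟩
      have hz : x⁻¹ * y ∈ Zb := QuotientGroup.eq.mp hxy
      rw [show (y : SL(2, F)) = (x : SL(2, F)) * ((x⁻¹ * y : B) : SL(2, F)) by simp]
      exact mul_mem hx (hZQ hz)
    · exact fun hy => ⟨y, hy, rfl⟩
  have hPc : Subgroup.normalizer ((P : Subgroup (B ⧸ Zb)) : Set (B ⧸ Zb)) ≤
      Subgroup.centralizer ((P : Subgroup (B ⧸ Zb)) : Set (B ⧸ Zb)) := by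
    intro x hx
    obtain ⟨x, rfl⟩ := QuotientGroup.mk'_surjective Zb x
    have hxN : (x : SL(2, F)) ∈ Subgroup.normalizer ((Q : Subgroup SL(2, F)) : Set SL(2, F)) := by
      refine Subgroup.mem_normalizer_fintype fun y hy => ?_
      have := (Subgroup.mem_normalizer_iff.mp hx (QuotientGroup.mk' Zb ⟨y, hQB hy⟩)).mp ((hPmem _).mpr hy)
      rw [← map_inv, ← map_mul, ← map_mul, hPmem] at this
      exact this
    have hxQ : (x : SL(2, F)) ∈ (Q : Subgroup SL(2, F)) := hB ⟨hxN, x.2⟩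
    rw [Subgroup.mem_centralizer_iff]
    intro w hw
    obtain ⟨y, rfl⟩ := QuotientGroup.mk'_surjective Zb w
    rw [SetLike.mem_coe, hPmem] at hw
    rw [← map_mul, ← map_mul]
    refine QuotientGroup.eq.mpr ?_
    show (((y * x)⁻¹ * (x * y) : B) : SL(2, F)) ∈ Z
    push_cast
    rw [show ((y : SL(2, F)) * x)⁻¹ * ((x : SL(2, F)) * y) =
      ((x : SL(2, F)) * x)⁻¹ * ((x : SL(2, F)) * ((y : SL(2, F)) * y)⁻¹ * ((x : SL(2, F)))⁻¹) *
        (((x : SL(2, F)) * y) * ((x : SL(2, F)) * y)) by group]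
    exact mul_mem (mul_mem (inv_mem (hsq _ hxQ))
      ((inferInstance : Z.Normal).conj_mem _ (inv_mem (hsq _ hw)) _)) (hsq _ (mul_mem hxQ hw))
  obtain ⟨R₀, hR₀, hodd₀⟩ := PronormalOdd.exists_odd_core Zb hZbc P hPc
  set R : Subgroup SL(2, F) := R₀.map B.subtype with hRdef
  have hR : Odd (Nat.card R) := by rwa [hRdef, Subgroup.card_map_of_injective B.subtype_injective]
  have hRB : R ≤ B := Subgroup.map_subtype_le _
  have hmemR : ∀ x ∈ B, Odd (orderOf x) → x ∈ R := fun x hx ho =>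
    ⟨⟨x, hx⟩, hodd₀ _ (by rwa [← Subgroup.orderOf_coe]), rfl⟩
  by_cases hR1 : ∀ x ∈ R, x = 1
  · refine le_antisymm (fun x hx => ?_) hQB
    have hB2 : IsPGroup 2 B := by
      intro y
      obtain ⟨a, -, c, -, rfl, ⟨k, hk⟩, hc⟩ := PronormalOdd.exists_pp'_decomp (p := 2) y
      refine ⟨k, ?_⟩
      have hc1 : c = 1 := Subtype.ext (hR1 _ (hmemR _ c.2 (by
        rw [Subgroup.orderOf_coe]; exact Nat.coprime_two_right.mp hc)))
      rw [hc1, mul_one, hk]
    exact (Q.is_maximal' hB2 hQB).le hx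
  exfalso
  have hconjR : ∀ s : SL(2, F), cj s B = B → ∀ x ∈ R, s * x * s⁻¹ ∈ R := by
    intro s hs x hx
    refine hmemR _ (hs.le ⟨x, hRB hx, rfl⟩) ?_
    rw [← MulAut.conj_apply, MulEquiv.orderOf_eq]
    exact PronormalOdd.odd_orderOf_of_mem hR hx
  have hQR : ∀ s ∈ (Q : Subgroup SL(2, F)), ∀ x ∈ R, s * x * s⁻¹ ∈ R := fun s hs =>
    hconjR s (cj_mem (hQB hs))
  have hncR : ∀ x ∈ R, x ≠ 1 → x ∉ Z := by
    intro x hx h1 hz
    refine h1 (PronormalOdd.eq_one_of_odd_of_pow (PronormalOdd.odd_orderOf_of_mem hR hx) (k := 1) ?_)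
    rcases hcZ x hz with rfl | rfl <;> simp
  have hjiQ : j * i ∈ (Q : Subgroup SL(2, F)) := mul_mem G8.data.mj G8.data.mi
  have hinc : ∀ x : SL(2, F), x * x = -1 → x ∉ Z := fun x hx hz => by
    rcases hcZ x hz with rfl | rfl <;> exact PronormalOdd.neg_one_ne_one' h2 (by simpa using hx.symm)
  have hcomm : ∀ r ∈ R, r ≠ 1 → (∀ s ∈ (Q : Subgroup SL(2, F)), Commute (s * r * s⁻¹) r) →
      ∃ t ∈ (Q : Subgroup SL(2, F)), t * t = -1 ∧ Commute r t := by
    intro r hr hr1 hall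
    rcases PronormalOdd.conj_eq_or_inv h2 (hncR r hr hr1) (hsq i G8.data.mi) (hall i G8.data.mi) with h | h
    · exact ⟨i, G8.data.mi, G8.data.basis.ii, (mul_inv_eq_iff_eq_mul.mp h).symm⟩
    rcases PronormalOdd.conj_eq_or_inv h2 (hncR r hr hr1) (hsq j G8.data.mj) (hall j G8.data.mj) with h' | h'
    · exact ⟨j, G8.data.mj, G8.data.basis.jj, (mul_inv_eq_iff_eq_mul.mp h').symm⟩
    refine ⟨i * j, mul_mem G8.data.mi G8.data.mj, G8.data.basis.kk, ?_⟩
    have h'' : i * j * r * (i * j)⁻¹ = r := by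
      rw [show i * j * r * (i * j)⁻¹ = i * (j * r * j⁻¹) * i⁻¹ by group, h', ← conj_inv, h, inv_inv]
    exact (mul_inv_eq_iff_eq_mul.mp h'').symm
  have hab : ∀ x ∈ R, ∀ y ∈ R, Commute x y := by
    by_cases hpR : p ∣ Nat.card R
    · exfalso
      obtain ⟨u, hu⟩ := exists_prime_orderOf_dvd_card' p hpR
      have hu' : (u : SL(2, F)) ^ p = 1 := by rw [← hu, ← Subgroup.orderOf_coe, pow_orderOf_eq_one]
      have hu1 : (u : SL(2, F)) ≠ 1 := fun h => by
        rw [← Subgroup.orderOf_coe, h, orderOf_one] at hu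
        exact (Fact.out : p.Prime).one_lt.ne hu
      obtain ⟨t, -, ht, hc⟩ := hcomm u u.2 hu1 fun s hs => by
        have hm := hQR s hs u u.2
        have hpow : (⟨_, hm⟩ : R) ^ p = 1 := Subtype.ext (by
          show (s * (u : SL(2, F)) * s⁻¹) ^ p = 1
          rw [conj_pow, hu', mul_one, mul_inv_cancel])
        exact congrArg Subtype.val (GL2Odd.commute_of_orderOf_eq p hp hR hpow (Subtype.ext hu')).eq
      exact hu1 (PronormalOdd.eq_one_of_pow_char p h2 ((Fact.out : p.Prime).odd_of_ne_two hp) ht hu' hc)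
    · intro x hx y hy
      have h := GL2Odd.commute_of_not_dvd p hp (R.map Matrix.SpecialLinearGroup.toGL)
        (by rwa [Subgroup.card_map_of_injective Matrix.SpecialLinearGroup.toGL_injective])
        (by rwa [Subgroup.card_map_of_injective Matrix.SpecialLinearGroup.toGL_injective])
        ⟨x, hx, rfl⟩ ⟨y, hy, rfl⟩
      rw [← map_mul, ← map_mul] at h
      exact Matrix.SpecialLinearGroup.toGL_injective h
  simp only [not_forall] at hR1
  obtain ⟨r, hr, hr1⟩ := hR1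
  obtain ⟨t, ht, htt, hct⟩ := hcomm r hr hr1 fun s hs => hab _ (hQR s hs r hr) r hr
  have htZ := hinc t htt
  have hr' : b * r * b⁻¹ ∈ R := hconjR b hbB r hr
  have hr'Z : b * r * b⁻¹ ∉ Z := fun h => hncR r hr hr1 (by
    have := (inferInstance : Z.Normal).conj_mem _ h b⁻¹
    rwa [show b⁻¹ * (b * r * b⁻¹) * b⁻¹⁻¹ = r by group] at this)
  have h1 : Commute t (b * r * b⁻¹) := PSL2.commute_of_commute (hncR r hr hr1) hct.symm (hab _ hr' r hr)
  have h3 : Commute (b * t * b⁻¹) (b * r * b⁻¹) := (Commute.map hct.symm (MulAut.conj b).toMonoidHom)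
  have h4 : Commute t (b * t * b⁻¹) := PSL2.commute_of_commute hr'Z h1 h3
  have hb3 : b ^ 3 = 1 := G8.data.odd3 b (fun q hq => (Subgroup.mem_normalizer_iff.mp hb q).mp hq) hbo
  have hbt : Commute b t := by
    obtain ⟨a, c, hac⟩ := PSL2.exists_lin_of_commute htZ (congrArg Subtype.val h4.symm.eq)
    have htri : PSL2.tr t = 0 := by
      rw [PSL2.tr_eq_trace]
      exact Basis8.trace_eq_zero h2 htt
    have htr := PSL2.tr_conj t b
    rw [PSL2.tr_eq_trace, hac, PSL2.lin, Matrix.trace_add, Matrix.trace_smul, Matrix.trace_smul,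
      Matrix.trace_one, Fintype.card_fin, ← PSL2.tr_eq_trace, htri, smul_zero, add_zero,
      smul_eq_mul] at htr
    have ha : a = 0 := (mul_eq_zero.mp htr).resolve_right (by exact_mod_cast h2)
    subst ha
    have hdet : c * c = 1 := by
      have h := (b * t * b⁻¹).2
      rw [hac, PSL2.det_lin, htri] at h
      linear_combination h
    rcases mul_self_eq_one_iff.mp hdet with rfl | rfl
    · refine mul_inv_eq_iff_eq_mul.mp (Subtype.ext ?_)
      rw [hac, PSL2.lin, zero_smul, zero_add, one_smul]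
    · have hneg : b * t * b⁻¹ = -t := Subtype.ext (by
        rw [hac, PSL2.lin, zero_smul, zero_add, neg_one_smul]; rfl)
      have hb2 : Commute (b ^ 2) t := by
        refine mul_inv_eq_iff_eq_mul.mp ?_
        rw [pow_two, show b * b * t * (b * b)⁻¹ = b * (b * t * b⁻¹) * b⁻¹ by group, hneg, mul_neg, neg_mul,
          hneg, neg_neg]
      have hb' : b = (b ^ 2) ^ 2 := by
        rw [← pow_mul, show 2 * 2 = 3 + 1 from rfl, pow_succ, hb3, one_mul]
      rw [hb']
      exact hb2.pow_left _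
  obtain ⟨w, hw, hwt⟩ : ∃ w ∈ (Q : Subgroup SL(2, F)), ¬ Commute w t := by
    by_contra hh
    simp only [not_exists, not_and, not_not] at hh
    exact htZ (PSL2.mem_center_iff'.mpr (G8.data.basis.mem_center_of_commute h2 (hh i G8.data.mi).symm
      (hh j G8.data.mj).symm))
  have hwt' : w * t * w⁻¹ = t⁻¹ := by
    have hz : w * t * w⁻¹ * t⁻¹ ∈ Z := by
      rw [show w * t * w⁻¹ * t⁻¹ = (w * w) * ((w⁻¹ * t) * (w⁻¹ * t)) * (t * t)⁻¹ by group]
      exact mul_mem (mul_mem (hsq w hw) (hsq _ (mul_mem (inv_mem hw) ht))) (inv_mem (hsq t ht))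
    rcases hcZ _ hz with h | h
    · exact absurd (mul_inv_eq_iff_eq_mul.mp (mul_inv_eq_one.mp h)) hwt
    · rw [mul_inv_eq_iff_eq_mul] at h
      rw [h, neg_one_mul, inv_eq_of_mul_eq_one_right (show t * -t = 1 by rw [mul_neg, htt, neg_neg])]
  have hwb := S2431.conj_eq_inv htZ hwt' hbt
  have hbb : b * b ∈ (Q : Subgroup SL(2, F)) := by
    have hm := mul_mem ((Subgroup.mem_normalizer_iff.mp hb w).mp hw) (inv_mem hw)
    rwa [show b * w * b⁻¹ * w⁻¹ = b * (w * b * w⁻¹)⁻¹ by group, hwb, inv_inv] at hm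
  refine hbQ ?_
  rw [show b = b * b * (b * b) by
    rw [show b * b * (b * b) = b ^ 3 * b by simp [pow_succ, mul_assoc], hb3, one_mul]]
  exact mul_mem hbb hbb

end Cfsg.Agent.PronSymp
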