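/-
The monomial Sylow 2-subgroup and its normaliser.

* `Smon Q T`, `card_Smon`
* `mem_Smon_rf` : the reflections in it
* `normalizer_Smon`
-/
import Cfsg.Agent.Lib.PronSymp.Unitary
import Cfsg.Agent.Lib.PronSymp.Block
import Cfsg.Agent.Lib.AltSelfNorm.Cases

set_option autoImplicit false
set_option linter.unusedSectionVars false

namespace Cfsg.Agent.PronSymp

open Matrix
open scoped MatrixGroups

variable {F : Type*} [Field F] {ι : Type} [Fintype ι] [DecidableEq ι]

theorem permG_diag' (π : Equiv.Perm ι) (c : ι → SL(2, F)) :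
    (diagG c : GU ι F) * permG π = permG π * diagG (fun k => c (π k)) := by
  rw [permG_diag]
  simp

theorem diag_perm_inj {c d : ι → SL(2, F)} {π ρ : Equiv.Perm ι}
    (h : (diagG c * permG π : GU ι F) = diagG d * permG ρ) : c = d ∧ π = ρ := by
  have e : ∀ k l, (if k = π l then (c k : M2 F) else 0) = if k = ρ l then (d k : M2 F) else 0 := fun k l => by
    rw [← mat_diag_perm, ← mat_diag_perm, h]
  have hne : ∀ g : SL(2, F), (g : M2 F) ≠ 0 := fun g h0 => by
    have := g.2; rw [h0, Matrix.det_zero] at this; exact zero_ne_one this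
  have hπ : π = ρ := Equiv.ext fun l => by
    have := e (π l) l
    rw [if_pos rfl] at this
    by_contra hne'
    rw [if_neg hne'] at this
    exact hne _ this
  subst hπ
  refine ⟨funext fun k => Subtype.ext ?_, rfl⟩
  have := e k (π⁻¹ k)
  simpa using this

theorem permG_inv_diag (π : Equiv.Perm ι) (c : ι → SL(2, F)) :
    ((diagG c : GU ι F) * permG π)⁻¹ = diagG (fun k => (c (π k))⁻¹) * permG π⁻¹ := by
  rw [permG_diag', _root_.mul_inv_rev, map_inv, ← map_inv (diagG (ι := ι) (F := F))]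
  rfl

theorem mul_diag_perm (c d : ι → SL(2, F)) (π ρ : Equiv.Perm ι) :
    (diagG c * permG π : GU ι F) * (diagG d * permG ρ) =
      diagG (fun k => c k * d (π⁻¹ k)) * permG (π * ρ) := by
  calc _ = (diagG c : GU ι F) * (permG π * diagG d) * permG ρ := by simp only [mul_assoc]
    _ = diagG c * diagG (fun k => d (π⁻¹ k)) * (permG π * permG ρ) := by
        rw [permG_diag]; simp only [mul_assoc]
    _ = _ := by rw [← map_mul, ← map_mul]; rfl

/-- The monomial subgroup. -/
def Smon (Q : Subgroup SL(2, F)) (T : Subgroup (Equiv.Perm ι)) : Subgroup (GU ι F) where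
  carrier := {g | ∃ c : ι → SL(2, F), (∀ k, c k ∈ Q) ∧ ∃ π ∈ T, g = diagG c * permG π}
  one_mem' := ⟨1, fun _ => one_mem _, 1, one_mem _, by simp⟩
  mul_mem' := by
    rintro _ _ ⟨c, hc, π, hπ, rfl⟩ ⟨d, hd, ρ, hρ, rfl⟩
    exact ⟨_, fun k => mul_mem (hc k) (hd _), _, mul_mem hπ hρ, mul_diag_perm c d π ρ⟩
  inv_mem' := by
    rintro _ ⟨c, hc, π, hπ, rfl⟩
    exact ⟨_, fun k => inv_mem (hc _), _, inv_mem hπ, permG_inv_diag π c⟩

theorem diag_mem_Smon {Q : Subgroup SL(2, F)} {T : Subgroup (Equiv.Perm ι)} {c : ι → SL(2, F)}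
    (h : ∀ k, c k ∈ Q) : (diagG c : GU ι F) ∈ Smon Q T :=
  ⟨c, h, 1, one_mem _, by simp⟩

theorem single_mem_Smon {Q : Subgroup SL(2, F)} {T : Subgroup (Equiv.Perm ι)} (a : ι) {q : SL(2, F)}
    (h : q ∈ Q) : (single a q : GU ι F) ∈ Smon Q T := by
  rw [single_eq_diag]
  refine diag_mem_Smon fun k => ?_
  by_cases hk : k = a
  · subst hk; simpa using h
  · rw [Pi.mulSingle_eq_of_ne hk]; exact one_mem _

theorem permG_mem_Smon {Q : Subgroup SL(2, F)} {T : Subgroup (Equiv.Perm ι)} {π : Equiv.Perm ι} (h : π ∈ T) :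
    (permG π : GU ι F) ∈ Smon Q T :=
  ⟨1, fun _ => one_mem _, π, h, by simp⟩

theorem card_Smon (Q : Subgroup SL(2, F)) (T : Subgroup (Equiv.Perm ι)) :
    Nat.card (Smon Q T : Subgroup (GU ι F)) = Nat.card Q ^ Fintype.card ι * Nat.card T := by
  let φ : (ι → Q) × T → (Smon Q T : Subgroup (GU ι F)) := fun p =>
    ⟨diagG (fun k => (p.1 k : SL(2, F))) * permG (p.2 : Equiv.Perm ι),
      _, fun k => (p.1 k).2, _, p.2.2, rfl⟩
  have hφ : Function.Bijective φ := by
    refine ⟨fun p p' h => ?_, ?_⟩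
    · obtain ⟨h1, h2⟩ := diag_perm_inj (congrArg Subtype.val h)
      exact Prod.ext (funext fun k => Subtype.ext (congrFun h1 k)) (Subtype.ext h2)
    · rintro ⟨g, c, hc, π, hπ, rfl⟩
      exact ⟨(fun k => ⟨c k, hc k⟩, ⟨π, hπ⟩), rfl⟩
  rw [← Nat.card_eq_of_bijective φ hφ, Nat.card_prod, Nat.card_fun, Nat.card_eq_fintype_card (α := ι)]

theorem Smon_conj_eR {Q : Subgroup SL(2, F)} {T : Subgroup (Equiv.Perm ι)} {g : GU ι F} (h : g ∈ Smon Q T)
    (a : ι) : ∃ π ∈ T, g * eR a * g⁻¹ = eR (π a) := by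
  obtain ⟨c, -, π, hπ, rfl⟩ := h
  refine ⟨π, hπ, ?_⟩
  have hd : Commute (diagG c : GU ι F) (eR (π a)) := by
    refine mat_injective ?_
    rw [mat_mul, mat_mul, mat_eR, mat_diagG, Matrix.diagonal_mul_diagonal, Matrix.diagonal_mul_diagonal]
    congr 1
    funext k
    split_ifs <;> simp
  calc (diagG c : GU ι F) * permG π * eR a * (diagG c * permG π)⁻¹
      = diagG c * (permG π * eR a * (permG π)⁻¹) * (diagG c)⁻¹ := by group
    _ = eR (π a) := by rw [permG_conj_eR, hd.eq, mul_inv_cancel_right]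

/-- An element permuting the frame is monomial. -/
theorem exists_diag_perm (h2 : (2 : F) ≠ 0) {n : GU ι F} (h : ∀ a, ∃ b, n * eR a * n⁻¹ = eR b) :
    ∃ c π, n = diagG c * permG π := by
  choose p hp using h
  have hinj : Function.Injective p := fun a b hab => by
    refine eR_injective' h2 ?_
    have := (hp a).trans ((congrArg eR hab).trans (hp b).symm)
    exact mul_left_cancel (mul_right_cancel this)
  set π : Equiv.Perm ι := Equiv.ofBijective p (Finite.injective_iff_bijective.mp hinj)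
  obtain ⟨c, hc⟩ := exists_diag_of_forall_commute h2 (g := n * (permG π)⁻¹) fun b => by
    obtain ⟨a, rfl⟩ := π.surjective b
    refine mul_inv_eq_iff_eq_mul.mp ?_
    calc n * (permG π)⁻¹ * eR (π a) * (n * (permG π)⁻¹)⁻¹
        = n * ((permG π)⁻¹ * (eR (π a)) * permG π) * n⁻¹ := by group
      _ = n * eR a * n⁻¹ := by rw [← permG_conj_eR]; group
      _ = eR (π a) := hp a
  exact ⟨c, π, by rw [← hc, inv_mul_cancel_right]⟩
where
  eR_injective' {ι : Type} [Fintype ι] [DecidableEq ι] {F : Type _} [Field F] (h2 : (2 : F) ≠ 0) {a b : ι}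
      (h : (eR a : GU ι F) = eR b) : a = b := by
    by_contra hne
    have e := congrFun (congrFun (congrArg mat h) a) a
    simp only [mat_eR, Matrix.diagonal_apply_eq, if_true, if_neg hne] at e
    have e0 := congrFun (congrFun e 0) 0
    simp at e0
    exact h2 (by linear_combination -e0)

/-- A reflection in the monomial group is in the frame or is a twisted transposition. -/
theorem mem_Smon_rf (h2 : (2 : F) ≠ 0) {Q : Subgroup SL(2, F)} {T : Subgroup (Equiv.Perm ι)} {u : UVec ι F}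
    (h : rf u ∈ Smon Q T) :
    (∃ a, rf u = eR a) ∨ ∃ k l, k ≠ l ∧ Equiv.swap k l ∈ T ∧ ∃ s ∈ Q,
      single k s⁻¹ * rf u * (single k s⁻¹)⁻¹ = permG (Equiv.swap k l) := by
  obtain ⟨c, hc, π, hπ, he⟩ := h
  have hent : ∀ k l, mat (rf u) k l = if k = π l then (c k : M2 F) else 0 := fun k l => by
    rw [he, mat_diag_perm]
  have hne : ∀ g : SL(2, F), (g : M2 F) ≠ 0 := fun g h0 => by
    have := g.2; rw [h0, Matrix.det_zero] at this; exact zero_ne_one this
  by_cases hπ1 : π = 1
  · subst hπ1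
    left
    refine exists_eR_of_forall_commute h2 fun a => (commute_eR_iff h2).mpr fun k hk => ?_
    rw [hent, hent, Equiv.Perm.one_apply, Equiv.Perm.one_apply, if_neg hk, if_neg (Ne.symm hk)]
    exact ⟨rfl, rfl⟩
  right
  obtain ⟨l, hl⟩ : ∃ l, π l ≠ l := by
    by_contra hh; push Not at hh; exact hπ1 (Equiv.ext hh)
  set k := π l with hk
  have hdl : (u.1 l).det = 2⁻¹ := by
    have e := hent l l
    rw [if_neg (Ne.symm hl), mat_rf, if_pos rfl, mul_bar, smul_smul, sub_eq_zero] at e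
    have := smul_one_inj ((one_smul F (1 : M2 F)).trans e)
    exact eq_inv_of_mul_eq_one_right this.symm
  have hl0 : (u.1 l).det ≠ 0 := by rw [hdl]; exact inv_ne_zero h2
  have hsupp : ∀ m, m ≠ l → m ≠ k → u.1 m = 0 := by
    intro m hml hmk
    have e := hent m l
    rw [mat_rf, if_neg hml, if_neg hmk, zero_sub, neg_eq_zero, smul_eq_zero_iff_right h2] at e
    exact eq_zero_of_mul_unit (by rwa [det_bar]) e
  have hfix : ∀ m, m ≠ l → m ≠ k → π m = m ∧ c m = 1 := by
    intro m hml hmk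
    have e := hent m m
    rw [mat_rf, if_pos rfl, hsupp m hml hmk, zero_mul, smul_zero, sub_zero] at e
    by_cases hm : m = π m
    · rw [if_pos hm] at e
      exact ⟨hm.symm, Subtype.ext e.symm⟩
    · rw [if_neg hm] at e
      exact absurd e one_ne_zero
  have hkl : π k = l := by
    by_contra hne'
    by_cases hmk : π k = k
    · exact hl (π.injective (hmk.trans rfl))
    · have := (hfix (π k) hne' hmk).1
      exact hmk (π.injective this)
  have hswap : π = Equiv.swap k l := Equiv.ext fun m => by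
    by_cases h1 : m = l
    · subst h1; rw [Equiv.swap_apply_right]
    by_cases h2' : m = k
    · subst h2'; rw [Equiv.swap_apply_left, hkl]
    · rw [Equiv.swap_apply_of_ne_of_ne h2' h1, (hfix m h1 h2').1]
  refine ⟨k, l, hl, hswap ▸ hπ, c k, hc k, ?_⟩
  have hkk : c k * c l = 1 := by
    have h1 := rf_mul_self u
    rw [he, mul_diag_perm] at h1
    have h3 : (diagG (fun m => c m * c (π⁻¹ m)) * permG (π * π) : GU ι F) = diagG 1 * permG 1 := by
      rw [h1]; simp
    have h4 := congrFun (diag_perm_inj h3).1 k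
    rwa [show π⁻¹ k = l from Equiv.Perm.inv_eq_iff_eq.mpr hk, Pi.one_apply] at h4
  rw [he, single_eq_diag, ← map_inv, ← mul_assoc, ← map_mul, mul_assoc, permG_diag, ← mul_assoc, ← map_mul,
    hswap]
  refine (congrArg (fun z => (diagG z : GU ι F) * permG (Equiv.swap k l))
    (show _ = (1 : ι → SL(2, F)) from funext fun m => ?_)).trans (by rw [map_one, one_mul])
  show _ = (1 : SL(2, F))
  simp only [Pi.mul_apply, Pi.inv_apply, Equiv.swap_inv]
  by_cases h1 : m = k
  · subst h1
    simp [Pi.mulSingle_eq_of_ne (Ne.symm hl)]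
  by_cases h2' : m = l
  · subst h2'
    rw [Equiv.swap_apply_right, Pi.mulSingle_eq_same, Pi.mulSingle_eq_of_ne h1, one_mul, inv_inv]
    exact mul_eq_one_comm.mp hkk
  · rw [Equiv.swap_apply_of_ne_of_ne h1 h2', Pi.mulSingle_eq_of_ne h1, one_mul, inv_one, mul_one,
      (hfix m h2' h1).2]

/-- Scalar tuples. -/
def cst : SL(2, F) →* GU ι F := diagG.comp (Pi.monoidHom fun _ => MonoidHom.id SL(2, F))

theorem cst_apply (g : SL(2, F)) : (cst g : GU ι F) = diagG (fun _ => g) := rfl

theorem cst_conj (g : SL(2, F)) (c : ι → SL(2, F)) (π : Equiv.Perm ι) :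
    (cst g : GU ι F) * (diagG c * permG π) * (cst g)⁻¹ = diagG (fun k => g * c k * g⁻¹) * permG π := by
  rw [cst_apply, ← map_inv, ← mul_assoc, ← map_mul, mul_assoc, permG_diag, ← mul_assoc, ← map_mul]
  rfl

theorem cst_normalizes {Q : Subgroup SL(2, F)} {T : Subgroup (Equiv.Perm ι)} {g : SL(2, F)}
    (h : ∀ q ∈ Q, g * q * g⁻¹ ∈ Q) {s : GU ι F} (hs : s ∈ Smon Q T) : cst g * s * (cst g)⁻¹ ∈ Smon Q T := by
  obtain ⟨c, hc, π, hπ, rfl⟩ := hs
  exact ⟨_, fun k => h _ (hc k), π, hπ, cst_conj g c π⟩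

/-- The normaliser of the monomial Sylow subgroup. -/
theorem normalizer_Smon [Finite F] (h2 : (2 : F) ≠ 0) {k : ℕ} (hk : Fintype.card ι = 2 ^ k)
    (Q : Subgroup SL(2, F)) (hneg : (-1 : SL(2, F)) ∈ Q) (hQ : 2 < Nat.card Q)
    (T : Sylow 2 (Equiv.Perm ι)) {n : GU ι F}
    (hn : n ∈ Subgroup.normalizer ((Smon Q (T : Subgroup (Equiv.Perm ι))) : Set (GU ι F))) :
    ∃ s ∈ Smon Q (T : Subgroup (Equiv.Perm ι)), ∃ g : SL(2, F), (∀ q ∈ Q, g * q * g⁻¹ ∈ Q) ∧ n = s * cst g := by
  classical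
  haveI : Fact (Nat.Prime 2) := ⟨Nat.prime_two⟩
  set S : Subgroup (GU ι F) := Smon Q (T : Subgroup (Equiv.Perm ι))
  have hconj : ∀ x ∈ S, n * x * n⁻¹ ∈ S := fun x hx => (Subgroup.mem_normalizer_iff.mp hn x).mp hx
  have htrans := AltSelfNorm.sylow_trans hk T
  have hperm : ∀ a, ∃ b, n * eR a * n⁻¹ = eR b := by
    intro a
    have hw : rf (n • dv a) ∈ S := by
      rw [← rf_conj]; exact hconj _ (single_mem_Smon a hneg)
    rcases mem_Smon_rf h2 hw with ⟨b, hb⟩ | ⟨i, l, hil, hT, s, hs, hsw⟩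
    · exact ⟨b, (rf_conj n (dv a)).trans hb⟩
    exfalso
    choose t htT hti using fun j => htrans i j
    set p : ι → ι := fun j => t j l
    have hpne : ∀ j, p j ≠ j := fun j h => hil ((t j).injective ((hti j).trans h.symm))
    set z : ι → SL(2, F) → GU ι F := fun j q => single j q * permG (t j) * single i s⁻¹
    have hz : ∀ j q, q ∈ Q → z j q ∈ S := fun j q hq =>
      mul_mem (mul_mem (single_mem_Smon j hq) (permG_mem_Smon (htT j))) (single_mem_Smon i (inv_mem hs))
    have hzw : ∀ j q, z j q * (n * eR a * n⁻¹) * (z j q)⁻¹ =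
        diagG (Pi.mulSingle j q * fun m => (Pi.mulSingle j q : ι → SL(2, F))⁻¹ (Equiv.swap j (p j) m)) *
          permG (Equiv.swap j (p j)) := by
      intro j q
      rw [show n * eR a * n⁻¹ = rf (n • dv a) from rf_conj n (dv a)]
      calc z j q * rf (n • dv a) * (z j q)⁻¹ = single j q * (permG (t j) * (single i s⁻¹ * rf (n • dv a) *
            (single i s⁻¹)⁻¹) * (permG (t j))⁻¹) * (single j q)⁻¹ := by simp only [z]; group
        _ = single j q * permG (Equiv.swap j (p j)) * (single j q)⁻¹ := by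
            rw [hsw, ← map_inv, ← map_mul, ← map_mul,
              show t j * Equiv.swap i l * (t j)⁻¹ = Equiv.swap (t j i) (t j l) from (Equiv.swap_apply_apply _ _ _).symm,
              hti]
        _ = _ := by
            rw [single_eq_diag, ← map_inv, mul_assoc, permG_diag, ← mul_assoc, ← map_mul, Equiv.swap_inv]
    have hb : ∀ x : ι × Q, ∃ b, z x.1 x.2 * (n * eR a * n⁻¹) * (z x.1 x.2)⁻¹ = n * eR b * n⁻¹ := by
      intro x
      obtain ⟨π, -, hπ⟩ := Smon_conj_eR ((Subgroup.mem_normalizer_iff''.mp hn _).mp (hz x.1 x.2 x.2.2)) a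
      refine ⟨π a, ?_⟩
      rw [← hπ]; group
    choose bf hbf using hb
    obtain ⟨e⟩ : Nonempty (ι ≃ Fin (Fintype.card ι)) := ⟨Fintype.equivFin ι⟩
    have hinj : Function.Injective fun x : ι × Q => (bf x, decide (e x.1 < e (p x.1))) := by
      rintro ⟨j, q⟩ ⟨j', q'⟩ h
      obtain ⟨h1, h2'⟩ := Prod.ext_iff.mp h
      have h3 := (hzw j q).symm.trans ((hbf (j, q)).trans
        ((congrArg (fun b => n * eR b * n⁻¹) h1).trans ((hbf (j', q')).symm.trans (hzw j' q'))))
      obtain ⟨hd, hs'⟩ := diag_perm_inj h3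
      have hj : j = j' := by
        by_contra hne
        have e1 : Equiv.swap j' (p j') j = p j := by rw [← hs', Equiv.swap_apply_left]
        have hjp : j = p j' := by
          by_contra hne2
          rw [Equiv.swap_apply_of_ne_of_ne hne hne2] at e1
          exact hpne j e1.symm
        have hpj : p j = j' := by
          rw [← e1, hjp, Equiv.swap_apply_right]
        simp only [decide_eq_decide] at h2'
        rw [hpj, ← hjp] at h2'
        rcases lt_trichotomy (e j) (e j') with hlt | heq | hlt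
        · exact (lt_asymm hlt) (h2'.mp hlt)
        · exact hne (e.injective heq)
        · exact (lt_asymm hlt) (h2'.mpr hlt)
      subst hj
      have := congrFun hd j
      simp only [Pi.mul_apply, Pi.inv_apply, Equiv.swap_apply_left, Pi.mulSingle_eq_same,
        Pi.mulSingle_eq_of_ne (hpne j), inv_one, mul_one] at this
      exact Prod.ext rfl (Subtype.ext this)
    have := Nat.card_le_card_of_injective _ hinj
    rw [Nat.card_prod, Nat.card_prod, Nat.card_eq_fintype_card (α := ι), Nat.card_eq_fintype_card (α := Bool),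
      Fintype.card_bool, hk] at this
    exact absurd (Nat.le_of_mul_le_mul_left this (by positivity)) (by omega)
  obtain ⟨c, π, hcπ⟩ := exists_diag_perm h2 hperm
  have hπT : π ∈ (T : Subgroup (Equiv.Perm ι)) := by
    refine AltSelfNorm.normalizer_sylow_perm _ ι rfl T π fun t ht => ?_
    obtain ⟨d, -, ρ, hρ, he⟩ := hconj _ (permG_mem_Smon (Q := Q) (T := (T : Subgroup (Equiv.Perm ι))) ht)
    rw [hcπ, permG_inv_diag, ← one_mul (permG t), ← map_one (diagG (ι := ι) (F := F)), mul_diag_perm,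
      mul_diag_perm] at he
    rw [(diag_perm_inj he).2]
    exact hρ
  have hd : ∀ x ∈ S, diagG c * x * (diagG c)⁻¹ ∈ S := by
    intro x hx
    have hp : (permG π : GU ι F) ∈ S := permG_mem_Smon hπT
    have := hconj _ (mul_mem (mul_mem (inv_mem hp) hx) hp)
    rw [hcπ] at this
    convert this using 1
    group
  have hcN : ∀ m, ∀ q ∈ Q, c m * q * (c m)⁻¹ ∈ Q := by
    intro m q hq
    obtain ⟨d, hd', ρ, -, he⟩ := hd _ (single_mem_Smon m hq)
    have e1 : (diagG c : GU ι F) * single m q * (diagG c)⁻¹ = diagG (c * Pi.mulSingle m q * c⁻¹) * permG 1 := by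
      rw [single_eq_diag, ← map_inv, ← map_mul, ← map_mul, map_one, mul_one]
    have := congrFun (diag_perm_inj (e1.symm.trans he)).1 m
    rw [Pi.mul_apply, Pi.mul_apply, Pi.mulSingle_eq_same, Pi.inv_apply] at this
    rw [this]
    exact hd' m
  have hι : Nonempty ι := Fintype.card_pos_iff.mp (by rw [hk]; positivity)
  obtain ⟨m₀⟩ := hι
  have hcong : ∀ m, c m * (c m₀)⁻¹ ∈ Q := by
    intro m
    obtain ⟨t, ht, htm⟩ := htrans m₀ m
    obtain ⟨d, hd', ρ, -, he⟩ := hd _ (permG_mem_Smon (Q := Q) ht)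
    have e1 : (diagG c : GU ι F) * permG t * (diagG c)⁻¹ = diagG (fun x => c x * (c (t⁻¹ x))⁻¹) * permG t := by
      rw [← map_inv, mul_assoc, permG_diag, ← mul_assoc, ← map_mul]
      rfl
    have := congrFun (diag_perm_inj (e1.symm.trans he)).1 m
    simp only [show t⁻¹ m = m₀ from Equiv.Perm.inv_eq_iff_eq.mpr htm.symm] at this
    rw [this]
    exact hd' m
  refine ⟨diagG (fun m => c m * (c m₀)⁻¹) * permG π, ⟨_, hcong, π, hπT, rfl⟩, c m₀, hcN m₀, ?_⟩
  rw [hcπ, cst_apply, mul_assoc, permG_diag, ← mul_assoc, ← map_mul]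
  congr 2
  funext m
  simp

end Cfsg.Agent.PronSymp
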