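/-
Subgroups of odd index of the quaternionic unitary group in dimension a power of two are pronormal.

* `cst_mem_of_single`, `cst_mem_of_pairs`
* `eR_of_mem_Smon` : fusion of the frame reflections
* `allPron_GU`
-/
import Cfsg.Agent.Lib.PronSymp.Sylow
import Cfsg.Agent.Lib.PronSymp.QuatSylow
import Cfsg.Agent.Lib.PronSymp.Frame
import Cfsg.Agent.S4349

set_option autoImplicit false
set_option linter.unusedSectionVars false

namespace Cfsg.Agent.PronSymp

open Matrix Cfsg.Agent.S4270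
open scoped MatrixGroups

variable {F : Type*} [Field F] {ι : Type} [Fintype ι] [DecidableEq ι]

theorem diag_piecewise_mem {J : Subgroup (GU ι F)} {g : SL(2, F)} (h : ∀ a, (single a g : GU ι F) ∈ J) :
    ∀ s : Finset ι, (diagG fun k => if k ∈ s then g else 1 : GU ι F) ∈ J := by
  intro s
  induction s using Finset.induction_on with
  | empty =>
    rw [show (fun k : ι => if k ∈ (∅ : Finset ι) then g else (1 : SL(2, F))) = 1 from funext fun k => by simp,
      map_one]
    exact one_mem _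
  | @insert a s ha ih =>
    rw [show (fun k : ι => if k ∈ insert a s then g else (1 : SL(2, F))) =
      Pi.mulSingle a g * fun k => if k ∈ s then g else 1 from funext fun k => by
        by_cases hk : k = a
        · subst hk; simp [ha]
        · simp [hk, Pi.mulSingle_eq_of_ne hk], map_mul, ← single_eq_diag]
    exact mul_mem (h a) ih

theorem cst_mem_of_single {J : Subgroup (GU ι F)} {g : SL(2, F)} (h : ∀ a, (single a g : GU ι F) ∈ J) :
    (cst g : GU ι F) ∈ J := by
  have := diag_piecewise_mem h Finset.univ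
  simpa [cst_apply] using this

theorem cst_mem_of_pairs {J : Subgroup (GU ι F)} {g : SL(2, F)} {p : ι → ι} (hp : ∀ a, p a ≠ a)
    (hpp : ∀ a, p (p a) = a) (h : ∀ a, (single a g : GU ι F) * single (p a) g ∈ J) :
    (cst g : GU ι F) ∈ J := by
  suffices H : ∀ (n : ℕ) (s : Finset ι), s.card = n → (∀ a ∈ s, p a ∈ s) →
      (diagG fun k => if k ∈ s then g else 1 : GU ι F) ∈ J by
    have := H _ Finset.univ rfl fun a _ => Finset.mem_univ _
    simpa [cst_apply] using this
  intro n
  induction n using Nat.strong_induction_on with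
  | _ n ih =>
  intro s hs hsp
  rcases s.eq_empty_or_nonempty with rfl | ⟨a, ha⟩
  · rw [show (fun k : ι => if k ∈ (∅ : Finset ι) then g else (1 : SL(2, F))) = 1 from funext fun k => by simp,
      map_one]
    exact one_mem _
  set s' := (s.erase a).erase (p a)
  have hlt : s'.card < n := by
    rw [← hs]
    exact lt_of_le_of_lt (Finset.card_le_card (Finset.erase_subset _ _)) (Finset.card_erase_lt_of_mem ha)
  have hsp' : ∀ b ∈ s', p b ∈ s' := by
    intro b hb
    simp only [s', Finset.mem_erase] at hb ⊢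
    refine ⟨fun e => hb.2.1 ?_, fun e => hb.1 ?_, hsp b hb.2.2⟩
    · rw [← hpp b, e, hpp]
    · rw [← e, hpp]
  have := mul_mem (h a) (ih _ hlt s' rfl hsp')
  rw [single_eq_diag, single_eq_diag, ← map_mul, ← map_mul] at this
  refine Eq.mp (congrArg (fun z => (diagG z : GU ι F) ∈ J) (funext fun k => ?_)) this
  simp only [s', Pi.mul_apply, Finset.mem_erase]
  by_cases hka : k = a
  · subst hka; simp [ha, Pi.mulSingle_eq_of_ne (hp k).symm]
  by_cases hkp : k = p a
  · subst hkp; simp [hsp a ha, Pi.mulSingle_eq_of_ne (hp a)]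
  · simp [hka, hkp, Pi.mulSingle_eq_of_ne hka, Pi.mulSingle_eq_of_ne hkp]

section

variable [Finite F] [Fact (Nat.Prime 2)] {k : ℕ}

theorem not_mem_center_of_anticomm (h2 : (2 : F) ≠ 0) {i j : SL(2, F)} (B : Basis8 i j)
    (h : Commute j i) : False := by
  have e := congrArg Subtype.val h.eq
  rw [B.ji] at e
  change -((i : M2 F) * j) = (i : M2 F) * j at e
  have h2' : (2 : F) • ((i : M2 F) * j) = 0 := by
    rw [two_smul]; nth_rw 1 [← e]; exact neg_add_cancel _
  have h0 := (smul_eq_zero.mp h2').resolve_left h2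
  have := (i * j).2
  rw [Matrix.SpecialLinearGroup.coe_mul, h0, Matrix.det_zero] at this
  exact zero_ne_one this

/-- Fusion: a conjugate of a frame reflection lying in the Sylow subgroup is in the frame. -/
theorem eR_of_mem_Smon (hodd : Odd (Nat.card F)) (hk : Fintype.card ι = 2 ^ k) {Q : Sylow 2 SL(2, F)}
    {i j : SL(2, F)} (G8 : Gen8 (Q : Subgroup SL(2, F)) i j) (T : Sylow 2 (Equiv.Perm ι))
    {K : Subgroup (GU ι F)}
    (hSK : Smon (Q : Subgroup SL(2, F)) (T : Subgroup (Equiv.Perm ι)) ≤ K)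
    (hcap : ∀ a g, (single a g : GU ι F) ∈ K → g ∈ (Q : Subgroup SL(2, F)))
    (hnot : ∀ g ∈ Subgroup.normalizer ((Q : Subgroup SL(2, F)) : Set SL(2, F)), (cst g : GU ι F) ∈ K →
      g ∈ (Q : Subgroup SL(2, F)))
    {y : GU ι F} (hy : InD K Finset.univ y)
    (hyS : y ∈ Smon (Q : Subgroup SL(2, F)) (T : Subgroup (Equiv.Perm ι))) : ∃ a, y = eR a := by
  classical
  have h2 := two_ne_zero_of_odd hodd
  obtain ⟨x, hx, a, -, rfl⟩ := hy
  set u : UVec ι F := x • dv a
  have hxu : x * eR a * x⁻¹ = rf u := rf_conj x (dv a)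
  rw [hxu] at hyS ⊢
  rcases mem_Smon_rf h2 hyS with h | ⟨c, l, hcl, hT, s, hs, hsw⟩
  · exact h
  exfalso
  set x' := single c s⁻¹ * x
  have hx'K : x' ∈ K := mul_mem (hSK (single_mem_Smon c (inv_mem hs))) hx
  set v : UVec ι F := x' • dv a
  have hv : rf v = permG (Equiv.swap c l) := by
    rw [← hsw, ← hxu, show rf v = x' * eR a * x'⁻¹ from (rf_conj x' (dv a)).symm]
    simp only [x']; group
  have hent : ∀ m n, mat (rf v) m n = if m = Equiv.swap c l n then 1 else 0 := fun m n => by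
    rw [hv, mat_permG]
  set A := v.1 c with hA
  have hdA : A.det = 2⁻¹ := by
    have e := hent c c
    rw [Equiv.swap_apply_left, if_neg hcl, mat_rf, if_pos rfl, mul_bar, smul_smul, sub_eq_zero] at e
    exact eq_inv_of_mul_eq_one_right (smul_one_inj ((one_smul F (1 : M2 F)).trans e)).symm
  have hA0 : A.det ≠ 0 := by rw [hdA]; exact inv_ne_zero h2
  have hother : ∀ m, m ≠ c → m ≠ l → v.1 m = 0 := by
    intro m hmc hml
    have e := hent m c
    rw [Equiv.swap_apply_left, if_neg hml, mat_rf, if_neg hmc, zero_sub, neg_eq_zero,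
      smul_eq_zero_iff_right h2] at e
    exact eq_zero_of_mul_unit (by rwa [det_bar]) e
  have hvl : v.1 l = -A := by
    have e := hent c l
    rw [Equiv.swap_apply_right, if_pos rfl, mat_rf, if_neg hcl, zero_sub, ← hA] at e
    have e' := congrArg (fun z => bar A * z) e
    simp only [mul_neg, mul_smul_comm, ← mul_assoc, bar_mul_self, hdA, smul_mul_assoc, one_mul, mul_one,
      smul_smul, mul_inv_cancel₀ h2, one_smul] at e'
    rw [← bar_bar (v.1 l), ← bar_bar (-A), bar_neg]
    congr 1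
    rw [← neg_neg (bar (v.1 l)), e']
  -- the hom
  have hdet2 : ∀ y : SL(2, F), ((2 : F) • (bar A * (y : M2 F) * A)).det = 1 := fun y => by
    rw [Matrix.det_smul, Matrix.det_mul, Matrix.det_mul, det_bar, hdA, y.2, Fintype.card_fin]
    field_simp
  let φ : SL(2, F) →* SL(2, F) :=
    { toFun := fun y => ⟨(2 : F) • (bar A * (y : M2 F) * A), hdet2 y⟩
      map_one' := Subtype.ext (by
        show (2 : F) • (bar A * ((1 : SL(2, F)) : M2 F) * A) = _
        rw [Matrix.SpecialLinearGroup.coe_one, mul_one, bar_mul_self, hdA, smul_smul, mul_inv_cancel₀ h2,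
          one_smul])
      map_mul' := fun y z => Subtype.ext (by
        show (2 : F) • (bar A * ((y * z : SL(2, F)) : M2 F) * A) =
          ((2 : F) • (bar A * (y : M2 F) * A)) * ((2 : F) • (bar A * (z : M2 F) * A))
        rw [smul_mul_smul_comm, show bar A * (y : M2 F) * A * (bar A * (z : M2 F) * A) =
          bar A * (y : M2 F) * (A * bar A) * (z : M2 F) * A by simp only [mul_assoc], mul_bar, hdA]
        simp only [Matrix.SpecialLinearGroup.coe_mul, mul_smul_comm, smul_mul_assoc, mul_one, smul_smul]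
        rw [mul_assoc (2 : F), mul_inv_cancel₀ h2, mul_one]
        simp only [mul_assoc]) }
  have hφval : ∀ y : SL(2, F), (φ y : M2 F) = (2 : F) • (bar A * (y : M2 F) * A) := fun y => rfl
  have hAφ : ∀ y : SL(2, F), A * ((φ y : M2 F) - 1) * bar A = (2 : F)⁻¹ • ((y : M2 F) - 1) := by
    intro y
    rw [hφval, mul_sub, sub_mul, mul_one, mul_bar, hdA, mul_smul_comm, smul_mul_assoc,
      show A * (bar A * (y : M2 F) * A) * bar A = (A * bar A) * (y : M2 F) * (A * bar A) by simp only [mul_assoc],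
      mul_bar, hdA, smul_mul_assoc, one_mul, mul_smul_comm, mul_one, smul_smul, smul_smul, smul_sub,
      mul_assoc, ← mul_assoc (2 : F), mul_inv_cancel₀ h2, one_mul]
  have hmemv : ∀ y : SL(2, F), sig v y ∈ K ↔ y ∈ (Q : Subgroup SL(2, F)) := fun y => by
    have e : sig v y = x' * single a y * x'⁻¹ := (sig_conj x' (dv a) y).symm
    rw [e]
    refine ⟨fun h => hcap a y ?_, fun h => mul_mem (mul_mem hx'K (hSK (single_mem_Smon a h))) (inv_mem hx'K)⟩
    have := mul_mem (mul_mem (inv_mem hx'K) h) hx'K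
    simpa [mul_assoc] using this
  have hφN : ∀ q ∈ (Q : Subgroup SL(2, F)), φ q ∈ Subgroup.normalizer ((Q : Subgroup SL(2, F)) : Set SL(2, F)) := by
    intro q hq
    refine Subgroup.mem_normalizer_fintype fun y hy => (hmemv _).mp ?_
    have hq' : (cst q : GU ι F) ∈ K := hSK (diag_mem_Smon fun _ => hq)
    have e : sig v (φ q * y * (φ q)⁻¹) = cst q * sig v y * (cst q)⁻¹ := by
      rw [sig_conj]
      refine mat_injective (Matrix.ext fun m n => ?_)
      rw [mat_sig, mat_sig, sigM_apply, sigM_apply]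
      have hs' : ∀ m, ((cst q : GU ι F) • v).1 m = v.1 m * (φ q : M2 F) := fun m => by
        rw [smul_val, cst_apply, mat_diagG, Matrix.mulVec_diagonal]
        by_cases hmc : m = c
        · subst hmc
          rw [← hA, hφval, mul_smul_comm, ← mul_assoc, ← mul_assoc, mul_bar, hdA]
          simp [smul_mul_assoc, smul_smul, mul_inv_cancel₀ h2]
        by_cases hml : m = l
        · subst hml
          rw [hvl, hφval, mul_smul_comm, neg_mul, ← mul_assoc, ← mul_assoc, mul_bar, hdA]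
          simp [smul_mul_assoc, smul_smul, mul_inv_cancel₀ h2]
        · rw [hother m hmc hml, mul_zero, zero_mul]
      rw [hs', hs', bar_mul, Matrix.SpecialLinearGroup.coe_mul, Matrix.SpecialLinearGroup.coe_mul,
        coe_inv_eq_bar, mul_sub, sub_mul, mul_one, mul_sub, mul_one, sub_mul]
      congr 1
      simp only [mul_assoc]
      rw [← mul_assoc (φ q : M2 F) (bar (φ q : M2 F)), coe_mul_bar, one_mul]
    rw [e]
    exact mul_mem (mul_mem hq' ((hmemv y).mpr hy)) (inv_mem hq')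
  have hφQ : ∀ q ∈ (Q : Subgroup SL(2, F)), φ q ∈ (Q : Subgroup SL(2, F)) := fun q hq =>
    PronormalOdd.mem_sylow_of_normalizes Q (hφN q hq) ⟨3, by
      norm_num; rw [← map_pow, G8.data.pow q hq, map_one]⟩
  have hτK : ∀ q ∈ (Q : Subgroup SL(2, F)), sig v (φ q) ∈ K := fun q hq => (hmemv _).mpr (hφQ q hq)
  -- two coordinates
  let M : Frame F ι (Fin 2) := ⟨Matrix.of fun m r => if m = ![c, l] r then 1 else 0, by
    refine Matrix.ext fun r t => ?_
    simp only [Matrix.mul_apply, hT_apply, Matrix.of_apply]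
    rw [Finset.sum_eq_single (![c, l] r) (fun m _ hm => by rw [if_neg hm, bar_zero, zero_mul])
      (fun h => absurd (Finset.mem_univ _) h), if_pos rfl, bar_one, one_mul]
    fin_cases r <;> fin_cases t <;> simp [hcl, Ne.symm hcl]⟩
  have hM : ∀ (z : Fin 2 → M2 F) m, (M.1 *ᵥ z) m = (if m = c then z 0 else 0) + if m = l then z 1 else 0 := by
    intro z m
    by_cases h1 : m = c <;> by_cases h2' : m = l <;>
      simp [M, Matrix.mulVec, dotProduct, Fin.sum_univ_two, h1, h2', hcl, hcl.symm]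
  let v₀ : UVec (Fin 2) F := ⟨![A, -A], by
    simp only [inn, Fin.sum_univ_two, Matrix.cons_val_zero, Matrix.cons_val_one, bar_neg, neg_mul_neg,
      bar_mul_self, hdA, show (-A).det = A.det by simp [Matrix.det_neg], ← add_smul]
    rw [← two_mul, mul_inv_cancel₀ h2, one_smul]⟩
  have hv₀ : embV M v₀ = v := Subtype.ext (funext fun m => by
    show (M.1 *ᵥ ![A, -A]) m = v.1 m
    rw [hM]
    simp only [Matrix.cons_val_zero, Matrix.cons_val_one]
    by_cases hmc : m = c
    · subst hmc; rw [if_pos rfl, if_neg hcl, add_zero]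
    by_cases hml : m = l
    · subst hml; rw [if_neg hmc, if_pos rfl, zero_add, hvl]
    · rw [if_neg hmc, if_neg hml, add_zero, hother m hmc hml])
  have hd0 : embV M (dv 0) = dv c := Subtype.ext (funext fun m => by
    show (M.1 *ᵥ (dv 0 : UVec (Fin 2) F).1) m = _
    rw [hM, dv_same, dv_ne (show (1 : Fin 2) ≠ 0 by decide), ite_self, add_zero]
    by_cases hm : m = c
    · subst hm; rw [if_pos rfl, dv_same]
    · rw [if_neg hm, dv_ne hm])
  have hd1 : embV M (dv 1) = dv l := Subtype.ext (funext fun m => by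
    show (M.1 *ᵥ (dv 1 : UVec (Fin 2) F).1) m = _
    rw [hM, dv_same, dv_ne (show (0 : Fin 2) ≠ 1 by decide), ite_self, zero_add]
    by_cases hm : m = l
    · subst hm; rw [if_pos rfl, dv_same]
    · rw [if_neg hm, dv_ne hm])
  have hτ : ∀ (q : SL(2, F)) (m n : Fin 2), mat (sig v₀ (φ q)) m n =
      if m = n then (2 : F)⁻¹ • (1 + (q : M2 F)) else (2 : F)⁻¹ • (1 - (q : M2 F)) := by
    intro q m n
    have h12 : (1 : M2 F) = (2 : F)⁻¹ • (1 : M2 F) + (2 : F)⁻¹ • (1 : M2 F) := by
      rw [← add_smul, ← two_mul, mul_inv_cancel₀ h2, one_smul]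
    rw [mat_sig, sigM_apply]
    fin_cases m <;> fin_cases n <;>
      simp only [v₀, Fin.zero_eta, Fin.mk_one, Matrix.cons_val_zero, Matrix.cons_val_one, bar_neg, neg_mul,
        mul_neg, neg_neg, hAφ, Fin.zero_ne_one, one_ne_zero, if_true, if_false, zero_add]
    all_goals first
      | (rw [smul_sub, smul_add]; nth_rw 1 [h12]; abel)
      | (rw [smul_sub, smul_sub]; abel)
  set W₀ : GU (Fin 2) F := sig v₀ (φ i) * single 0 (i * j) * sig v₀ (φ j) * single 0 i with hW
  have hW₀ : ∀ m n, mat W₀ m n =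
      if m = n then (2 : F)⁻¹ • (1 + (i : M2 F) + j + (i : M2 F) * j) else 0 := by
    intro m n
    have r1 : ∀ z : M2 F, (i : M2 F) * ((i : M2 F) * z) = -z := fun z => by
      rw [← mul_assoc, G8.data.basis.coe_ii, neg_one_mul]
    have r2 : ∀ z : M2 F, (j : M2 F) * ((j : M2 F) * z) = -z := fun z => by
      rw [← mul_assoc, G8.data.basis.coe_jj, neg_one_mul]
    have r3 : ∀ z : M2 F, (j : M2 F) * ((i : M2 F) * z) = -((i : M2 F) * ((j : M2 F) * z)) := fun z => by
      rw [← mul_assoc, G8.data.basis.coe_ji, neg_mul, mul_assoc]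
    rw [hW, mat_mul, mat_mul, mat_mul, single_eq_diag, single_eq_diag, mat_diagG, mat_diagG,
      Matrix.mul_diagonal, Matrix.mul_apply, Fin.sum_univ_two, Matrix.mul_diagonal, Matrix.mul_diagonal,
      hτ, hτ, hτ, hτ]
    fin_cases m <;> fin_cases n <;>
      simp only [Fin.zero_eta, Fin.mk_one, Pi.mulSingle_eq_same,
        Pi.mulSingle_eq_of_ne (show (1 : Fin 2) ≠ 0 by decide), Fin.zero_ne_one, one_ne_zero, if_true,
        if_false, Matrix.SpecialLinearGroup.coe_one, Matrix.SpecialLinearGroup.coe_mul, smul_mul_assoc,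
        mul_smul_comm, smul_smul, mul_one, add_mul, mul_add, sub_mul, mul_sub, one_mul, smul_add, smul_sub,
        mul_assoc, r1, r2, r3, G8.data.basis.coe_ii, G8.data.basis.coe_jj, G8.data.basis.coe_ji, mul_neg,
        neg_mul, neg_neg, smul_neg] <;>
      match_scalars <;> field_simp <;> ring
  obtain ⟨w, hw⟩ := exists_diag_of_forall_commute h2 (g := W₀) fun b => (commute_eR_iff h2).mpr fun m hm => by
    rw [hW₀, hW₀, if_neg hm, if_neg (Ne.symm hm)]
    exact ⟨rfl, rfl⟩
  have hwval : ∀ m, (w m : M2 F) = (2 : F)⁻¹ • (1 + (i : M2 F) + j + (i : M2 F) * j) := fun m => by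
    have := congrFun (congrFun (congrArg mat hw) m) m
    rw [hW₀, if_pos rfl, mat_diagG, Matrix.diagonal_apply_eq] at this
    exact this.symm
  set h := w 0
  have hw1 : w 1 = h := Subtype.ext ((hwval 1).trans (hwval 0).symm)
  have hwK : (single c h : GU ι F) * single l h ∈ K := by
    have e : emb M W₀ = single c h * single l h := by
      rw [hw, show w = Pi.mulSingle 0 h * Pi.mulSingle 1 h from funext fun m => by
        fin_cases m
        · simp [h]
        · simp [hw1], map_mul, map_mul, ← single_eq_diag, ← single_eq_diag, single, single, emb_sig, emb_sig,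
        hd0, hd1]
      rfl
    rw [← e, hW, map_mul, map_mul, map_mul, single, emb_sig, emb_sig, emb_sig, emb_sig, hv₀, hd0]
    exact mul_mem (mul_mem (mul_mem (hτK i G8.data.mi)
      (hSK (single_mem_Smon c (mul_mem G8.data.mi G8.data.mj)))) (hτK j G8.data.mj))
      (hSK (single_mem_Smon c G8.data.mi))
  have hhval : (h : M2 F) = (2 : F)⁻¹ • (1 + (i : M2 F) + j + (i : M2 F) * j) := hwval 0
  have q1 : ∀ z : M2 F, (i : M2 F) * ((i : M2 F) * z) = -z := fun z => by
    rw [← mul_assoc, G8.data.basis.coe_ii, neg_one_mul]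
  have q2 : ∀ z : M2 F, (j : M2 F) * ((j : M2 F) * z) = -z := fun z => by
    rw [← mul_assoc, G8.data.basis.coe_jj, neg_one_mul]
  have q3 : ∀ z : M2 F, (j : M2 F) * ((i : M2 F) * z) = -((i : M2 F) * ((j : M2 F) * z)) := fun z => by
    rw [← mul_assoc, G8.data.basis.coe_ji, neg_mul, mul_assoc]
  have hhi : h * i = j * h := Subtype.ext (by
    simp only [Matrix.SpecialLinearGroup.coe_mul, hhval, smul_mul_assoc, mul_smul_comm, add_mul, mul_add,
      one_mul, mul_one, mul_assoc, q1, q2, q3, G8.data.basis.coe_ji, G8.data.basis.coe_jj,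
      G8.data.basis.coe_ii, mul_neg, neg_mul, neg_neg, smul_neg, smul_add]
    module)
  have hhj : h * j = i * j * h := Subtype.ext (by
    simp only [Matrix.SpecialLinearGroup.coe_mul, hhval, smul_mul_assoc, mul_smul_comm, add_mul, mul_add,
      one_mul, mul_one, mul_assoc, q1, q2, q3, G8.data.basis.coe_ji, G8.data.basis.coe_jj,
      G8.data.basis.coe_ii, mul_neg, neg_mul, neg_neg, smul_neg, smul_add]
    module)
  have hhN : h ∈ Subgroup.normalizer ((Q : Subgroup SL(2, F)) : Set SL(2, F)) := by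
    refine Subgroup.mem_normalizer_fintype fun q hq => ?_
    have ei : h * i * h⁻¹ = j := mul_inv_eq_iff_eq_mul.mpr hhi
    have ej : h * j * h⁻¹ = i * j := mul_inv_eq_iff_eq_mul.mpr hhj
    have ei' : ∀ n : ℕ, h * i ^ n * h⁻¹ ∈ (Q : Subgroup SL(2, F)) := fun n => by
      rw [← conj_pow, ei]; exact pow_mem G8.data.mj n
    obtain ⟨n, rfl | rfl⟩ := G8.gen q hq
    · exact ei' n
    · rw [← conj_mul, ej]; exact mul_mem (mul_mem G8.data.mi G8.data.mj) (ei' n)
  have hhQ : h ∉ (Q : Subgroup SL(2, F)) := by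
    intro hh
    have hci : Commute (h * i * h⁻¹) i := by
      obtain ⟨n, hn | hn⟩ := G8.gen h hh <;> rw [hn]
      · rw [((Commute.refl i).pow_left n).eq, mul_inv_cancel_right]
      · rw [show j * i ^ n * i * (j * i ^ n)⁻¹ = j * (i ^ n * i * (i ^ n)⁻¹) * j⁻¹ by group,
          ((Commute.refl i).pow_left n).eq, mul_inv_cancel_right, G8.data.basis.ji, neg_mul,
          mul_inv_cancel_right]
        exact (Commute.refl i).neg_left
    rw [mul_inv_eq_iff_eq_mul.mpr hhi] at hci
    exact not_mem_center_of_anticomm h2 G8.data.basis hci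
  -- spreading out
  have hpair : ∀ b, ∃ b', b' ≠ b ∧ Equiv.swap b b' ∈ (T : Subgroup (Equiv.Perm ι)) ∧
      (single b h : GU ι F) * single b' h ∈ K := by
    intro b
    obtain ⟨t, ht, htb⟩ := AltSelfNorm.sylow_trans hk T c b
    refine ⟨t l, fun e => hcl (t.injective (htb.trans e.symm)), ?_, ?_⟩
    · have := mul_mem (mul_mem ht hT) (inv_mem ht)
      rwa [← Equiv.swap_apply_apply, htb] at this
    · have hp : (permG t : GU ι F) ∈ K := hSK (permG_mem_Smon ht)
      have := mul_mem (mul_mem hp hwK) (inv_mem hp)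
      rwa [← conj_mul, permG_conj_single, permG_conj_single, htb] at this
  choose p hp hpT hpK using hpair
  refine hhQ (hnot h hhN (cst_mem_of_pairs hp (fun b => ?_) hpK))
  by_contra hne
  refine S4349.not_two_swaps T (a := p b) (b := b) (c := p (p b)) (hp b) (hp (p b)).symm (Ne.symm hne) ?_
    (hpT (p b))
  rw [Equiv.swap_comm]
  exact hpT b

/-- The normaliser of the Sylow subgroup modulo it is commutative. -/
theorem comm_normalizer_Smon (hodd : Odd (Nat.card F)) (hk : Fintype.card ι = 2 ^ k) (Q : Sylow 2 SL(2, F))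
    (T : Sylow 2 (Equiv.Perm ι)) {n n' : GU ι F}
    (hn : n ∈ Subgroup.normalizer
      (Smon (Q : Subgroup SL(2, F)) (T : Subgroup (Equiv.Perm ι)) : Set (GU ι F)))
    (hn' : n' ∈ Subgroup.normalizer
      (Smon (Q : Subgroup SL(2, F)) (T : Subgroup (Equiv.Perm ι)) : Set (GU ι F))) :
    n * n' * n⁻¹ * n'⁻¹ ∈ Smon (Q : Subgroup SL(2, F)) (T : Subgroup (Equiv.Perm ι)) := by
  classical
  haveI := Fintype.ofFinite F
  have h2 := two_ne_zero_of_odd hodd
  obtain ⟨s, hs, g, hg, rfl⟩ := normalizer_Smon h2 hk _ (neg_one_mem_sylow Q) (two_lt_card_sylow hodd Q) T hn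
  obtain ⟨s', hs', g', hg', rfl⟩ := normalizer_Smon h2 hk _ (neg_one_mem_sylow Q) (two_lt_card_sylow hodd Q) T hn'
  have hgg : g * g' * g⁻¹ * g'⁻¹ ∈ (Q : Subgroup SL(2, F)) := by
    have hgN : g ∈ Subgroup.normalizer ((Q : Subgroup SL(2, F)) : Set SL(2, F)) :=
      Subgroup.mem_normalizer_fintype fun q hq => hg q hq
    have hg'N : g' ∈ Subgroup.normalizer ((Q : Subgroup SL(2, F)) : Set SL(2, F)) :=
      Subgroup.mem_normalizer_fintype fun q hq => hg' q hq
    by_cases h8 : Nat.card F % 8 = 1 ∨ Nat.card F % 8 = 7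
    · rw [(S2431.result (by rwa [← Nat.card_eq_fintype_card]) Q).2.1
        (by rwa [← Nat.card_eq_fintype_card])] at hgN hg'N
      exact mul_mem (mul_mem (mul_mem hgN hg'N) (inv_mem hgN)) (inv_mem hg'N)
    · obtain ⟨i, j, G8⟩ := exists_gen8 hodd (by obtain ⟨m, hm⟩ := hodd; omega) Q
      exact G8.comm g g' hgN hg'N
  rw [show s * cst g * (s' * cst g') * (s * cst g)⁻¹ * (s' * cst g')⁻¹ =
    s * (cst g * s' * (cst g)⁻¹) * (cst g * cst g' * (cst g)⁻¹ * (cst g')⁻¹) *
      (cst g' * s⁻¹ * (cst g')⁻¹) * s'⁻¹ by group]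
  refine mul_mem (mul_mem (mul_mem (mul_mem hs (cst_normalizes hg hs')) ?_)
    (cst_normalizes hg' (inv_mem hs))) (inv_mem hs')
  rw [← map_inv, ← map_inv, ← map_mul, ← map_mul, ← map_mul]
  exact diag_mem_Smon fun _ => hgg

/-- The core: a subgroup above the Sylow subgroup either is normalised or reaches the rotation. -/
theorem pron_core (hodd : Odd (Nat.card F)) (hk : Fintype.card ι = 2 ^ k) (Q : Sylow 2 SL(2, F))
    {i j : SL(2, F)} (G8 : Gen8 (Q : Subgroup SL(2, F)) i j) (T : Sylow 2 (Equiv.Perm ι))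
    (S : Sylow 2 (GU ι F))
    (hSeq : (S : Subgroup (GU ι F)) = Smon (Q : Subgroup SL(2, F)) (T : Subgroup (Equiv.Perm ι)))
    {K : Subgroup (GU ι F)} (hSK : (S : Subgroup (GU ι F)) ≤ K)
    {b : SL(2, F)} (hb : b ∈ Subgroup.normalizer ((Q : Subgroup SL(2, F)) : Set SL(2, F)))
    (hbo : Odd (orderOf b)) : ∃ x ∈ K ⊔ cj (cst b) K, cj (cst b) K = cj x K := by
  classical
  have h2 := two_ne_zero_of_odd hodd
  by_cases hbQ : b ∈ (Q : Subgroup SL(2, F))
  · refine ⟨1, one_mem _, ?_⟩
    rw [cj_one, cj_mem (hSK (hSeq ▸ diag_mem_Smon fun _ => hbQ))]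
  set J := K ⊔ cj (cst b) K
  have hKJ : K ≤ J := le_sup_left
  have hSK' : Smon (Q : Subgroup SL(2, F)) (T : Subgroup (Equiv.Perm ι)) ≤ K := hSeq ▸ hSK
  by_cases hJ : ∃ g ∈ Subgroup.normalizer ((Q : Subgroup SL(2, F)) : Set SL(2, F)),
      g ∉ (Q : Subgroup SL(2, F)) ∧ (cst g : GU ι F) ∈ J
  · obtain ⟨g, hgN, hgQ, hgJ⟩ := hJ
    refine ⟨cst b, ?_, rfl⟩
    refine (G8.full (Subgroup.normalizer ((Q : Subgroup SL(2, F)) : Set SL(2, F)) ⊓ J.comap cst) ?_
      inf_le_left hb).2
    refine lt_of_le_of_ne (le_inf Subgroup.le_normalizer fun q hq => hKJ (hSK' (diag_mem_Smon fun _ => hq)))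
      fun e => hgQ ?_
    rw [e]
    exact ⟨hgN, hgJ⟩
  simp only [not_exists, not_and] at hJ
  have hnot : ∀ g ∈ Subgroup.normalizer ((Q : Subgroup SL(2, F)) : Set SL(2, F)), (cst g : GU ι F) ∈ J →
      g ∈ (Q : Subgroup SL(2, F)) := fun g hgN hgJ => by_contra fun h => hJ g hgN h hgJ
  have hcstS : ∀ a x, (cst b : GU ι F) * single a x * (cst b)⁻¹ = single a (b * x * b⁻¹) := fun a x => by
    rw [single_eq_diag, single_eq_diag, cst_apply, ← map_inv, ← map_mul, ← map_mul]
    congr 1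
    funext m
    by_cases hm : m = a
    · subst hm; simp
    · simp [Pi.mulSingle_eq_of_ne hm]
  obtain ⟨p, hchar⟩ := CharP.exists F
  haveI : Fact p.Prime := ⟨CharP.char_is_prime F p⟩
  have hp : p ≠ 2 := by
    rintro rfl
    exact h2 (by exact_mod_cast CharP.cast_eq_zero F 2)
  have hQ8 : Nat.card (Q : Subgroup SL(2, F)) = 8 := by
    refine PronormalOdd.card_sylow_of_eq_eight ?_ Q
    by_contra h8
    haveI := Fintype.ofFinite F
    have h17 : Nat.card F % 8 = 1 ∨ Nat.card F % 8 = 7 := by obtain ⟨m, hm⟩ := hodd; omega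
    rw [(S2431.result (by rwa [← Nat.card_eq_fintype_card]) Q).2.1
      (by rwa [← Nat.card_eq_fintype_card])] at hb
    exact hbQ hb
  have hcap : ∀ a g, (single a g : GU ι F) ∈ K → g ∈ (Q : Subgroup SL(2, F)) := by
    intro a g hg
    set B := K.comap (single a)
    set M := J.comap (single a)
    have hQB : (Q : Subgroup SL(2, F)) ≤ B := fun q hq => hSK' (single_mem_Smon a hq)
    have hBM : B ≤ M := fun x hx => hKJ hx
    have hMN : Subgroup.normalizer ((Q : Subgroup SL(2, F)) : Set SL(2, F)) ⊓ M ≤ (Q : Subgroup SL(2, F)) := by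
      rintro x ⟨hxN, hxM⟩
      refine hnot x hxN (cst_mem_of_single fun a' => ?_)
      obtain ⟨t, ht, hta⟩ := AltSelfNorm.sylow_trans hk T a a'
      have hp' : (permG t : GU ι F) ∈ J := hKJ (hSK' (permG_mem_Smon ht))
      have := mul_mem (mul_mem hp' hxM) (inv_mem hp')
      rwa [permG_conj_single, hta] at this
    have hbB : cj b B ≤ M := by
      rintro _ ⟨x, hx, rfl⟩
      show single a (b * x * b⁻¹) ∈ J
      rw [← hcstS]
      exact Subgroup.mem_sup_right ⟨_, hx, rfl⟩
    have heq := PronormalOdd.cj_eq_of_odd_normalizing p hp h2 Q hQ8 hQB hBM hMN hb hbo hbB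
    have hBQ := eq_of_normalized hodd Q G8 hQB
      (fun x hx => hMN ⟨hx.1, hBM hx.2⟩) hb hbQ hbo heq
    exact hBQ ▸ (show g ∈ B from hg)
  have hcomm : ∀ y y', InD K Finset.univ y → InD K Finset.univ y' → (y * y') ^ 4 = 1 → Commute y y' := by
    intro y y' hy hy' h4
    have hmemK : ∀ z, InD K Finset.univ z → z ∈ K ∧ z * z = 1 := by
      rintro _ ⟨x, hx, a, -, rfl⟩
      refine ⟨mul_mem (mul_mem hx (hSK' (single_mem_Smon a (neg_one_mem_sylow Q)))) (inv_mem hx), ?_⟩
      rw [show x * eR a * x⁻¹ * (x * eR a * x⁻¹) = x * (eR a * eR a) * x⁻¹ by group, eR_mul_self, mul_one,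
        mul_inv_cancel]
    obtain ⟨hyK, hyy⟩ := hmemK y hy
    obtain ⟨hy'K, hy'y'⟩ := hmemK y' hy'
    have hpz : ∀ (z : GU ι F) (n : ℕ), z ^ 2 ^ n = 1 → IsPGroup 2 (Subgroup.zpowers z) := fun z n hz => by
      obtain ⟨m, -, hm⟩ := (Nat.dvd_prime_pow Nat.prime_two).mp (orderOf_dvd_of_pow_eq_one hz)
      exact IsPGroup.of_card (n := m) (by rw [Nat.card_zpowers, hm])
    have hE := (hpz y 1 (by rw [pow_one, pow_two, hyy])).to_sup_of_normal_right' (hpz (y * y') 2 h4) (by
      rw [Subgroup.zpowers_le]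
      refine Subgroup.mem_normalizer_fintype ?_
      rintro _ ⟨m, rfl⟩
      show y * (y * y') ^ m * y⁻¹ ∈ _
      rw [← conj_zpow]
      refine Subgroup.zpow_mem _ ?_ m
      have : y * (y * y') * y⁻¹ = (y * y')⁻¹ := by
        rw [_root_.mul_inv_rev, inv_eq_of_mul_eq_one_right hyy, inv_eq_of_mul_eq_one_right hy'y',
          ← mul_assoc y y y', hyy, one_mul]
      rw [this]
      exact inv_mem (Subgroup.mem_zpowers _))
    set E := Subgroup.zpowers y ⊔ Subgroup.zpowers (y * y')
    have hEK : E ≤ K := sup_le (Subgroup.zpowers_le.mpr hyK) (Subgroup.zpowers_le.mpr (mul_mem hyK hy'K))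
    obtain ⟨R, hR⟩ := (hE.comap_subtype (K := K)).exists_le_sylow
    obtain ⟨z, hz⟩ := MulAction.exists_smul_eq K R (S.subtype hSK)
    have hmove : ∀ w ∈ E, (z : GU ι F) * w * (z : GU ι F)⁻¹ ∈ (S : Subgroup (GU ι F)) := by
      intro w hw
      have h1 : (z * ⟨w, hEK hw⟩ * z⁻¹ : K) ∈ (S.subtype hSK : Subgroup K) := by
        rw [← hz]
        exact ⟨⟨w, hEK hw⟩, hR hw, rfl⟩
      exact h1
    have hyE : y ∈ E := Subgroup.mem_sup_left (Subgroup.mem_zpowers y)
    have hy'E : y' ∈ E := by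
      rw [show y' = y⁻¹ * (y * y') by group]
      exact mul_mem (inv_mem hyE) (Subgroup.mem_sup_right (Subgroup.mem_zpowers _))
    have hnotK : ∀ g ∈ Subgroup.normalizer ((Q : Subgroup SL(2, F)) : Set SL(2, F)), (cst g : GU ι F) ∈ K →
        g ∈ (Q : Subgroup SL(2, F)) := fun g hgN hgK => hnot g hgN (hKJ hgK)
    obtain ⟨a, ha⟩ := eR_of_mem_Smon hodd hk G8 T hSK' hcap hnotK (hy.conj z.2) (hSeq ▸ hmove y hyE)
    obtain ⟨a', ha'⟩ := eR_of_mem_Smon hodd hk G8 T hSK' hcap hnotK (hy'.conj z.2) (hSeq ▸ hmove y' hy'E)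
    have hc := Commute.map (eR_commute a a' : Commute (eR a : GU ι F) (eR a'))
      (MulAut.conj (z : GU ι F)⁻¹).toMonoidHom
    simp only [MulEquiv.coe_toMonoidHom, MulAut.conj_apply, inv_inv, ← ha, ← ha'] at hc
    simpa [mul_assoc] using hc
  have hGood : Good (Q : Subgroup SL(2, F)) K Finset.univ :=
    ⟨fun x _ a ha => absurd (Finset.mem_univ a) ha, fun a _ q hq => hSK' (single_mem_Smon a hq),
      fun a _ g hg => hcap a g hg, hcomm⟩
  refine ⟨1, one_mem _, ?_⟩
  rw [cj_one]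
  refine Subgroup.eq_of_le_of_card_ge ?_ (Subgroup.card_map_of_injective (MulAut.conj _).injective).ge
  rintro _ ⟨x, hx, rfl⟩
  show cst b * x * (cst b)⁻¹ ∈ K
  obtain ⟨d, π, rfl⟩ := exists_diag_perm h2 fun a =>
    frame h2 G8.data _ Finset.univ rfl K hGood x hx a (Finset.mem_univ a)
  have hdN : ∀ m, d m ∈ Subgroup.normalizer ((Q : Subgroup SL(2, F)) : Set SL(2, F)) := fun m =>
    Subgroup.mem_normalizer_fintype fun q hq => by
      refine hcap m _ ?_
      have hm := mul_mem (mul_mem hx (hSK' (single_mem_Smon (π⁻¹ m) hq))) (inv_mem hx)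
      rwa [show (diagG d : GU ι F) * permG π * single (π⁻¹ m) q * (diagG d * permG π)⁻¹ =
          diagG d * (permG π * single (π⁻¹ m) q * (permG π)⁻¹) * (diagG d)⁻¹ by group,
        permG_conj_single, Equiv.Perm.coe_inv, Equiv.apply_symm_apply, single_eq_diag, ← map_inv, ← map_mul,
        ← map_mul, show d * Pi.mulSingle m q * d⁻¹ = Pi.mulSingle m (d m * q * (d m)⁻¹) from funext fun l => by
          by_cases hl : l = m
          · subst hl; simp
          · simp [Pi.mulSingle_eq_of_ne hl], ← single_eq_diag] at hm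
  have : (diagG (fun m => b * d m * b⁻¹ * (d m)⁻¹) : GU ι F) ∈ K :=
    hSK' (diag_mem_Smon fun m => G8.comm b (d m) hb (hdN m))
  have h' := mul_mem this hx
  rwa [← mul_assoc, ← map_mul, show ((fun m => b * d m * b⁻¹ * (d m)⁻¹) * d) = fun m => b * d m * b⁻¹ from
    funext fun m => by simp, ← cst_conj] at h'

/-- Every subgroup of odd index is pronormal. -/
theorem allPron_GU (hodd : Odd (Nat.card F)) (hk : Fintype.card ι = 2 ^ k) (Q : Sylow 2 SL(2, F))
    (T : Sylow 2 (Equiv.Perm ι)) (S : Sylow 2 (GU ι F))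
    (hSeq : (S : Subgroup (GU ι F)) = Smon (Q : Subgroup SL(2, F)) (T : Subgroup (Equiv.Perm ι))) :
    PronormalOdd.AllPron 2 (GU ι F) := by
  classical
  haveI := Fintype.ofFinite F
  have h2 := two_ne_zero_of_odd hodd
  intro K₀ hK₀
  obtain ⟨P, hP⟩ := (exists_sylow_le_iff K₀).mpr hK₀
  obtain ⟨a, rfl⟩ := MulAction.exists_smul_eq (GU ι F) S P
  set K := cj a⁻¹ K₀ with hKdef
  have hSK : (S : Subgroup (GU ι F)) ≤ K := by
    have := cj_mono a⁻¹ (show cj a (S : Subgroup (GU ι F)) ≤ K₀ from hP)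
    rwa [cj_cj, inv_mul_cancel, cj_one] at this
  suffices hpr : Cfsg.IsPronormal K by
    have := PronormalOdd.pron_cj a hpr
    rwa [hKdef, cj_cj, mul_inv_cancel, cj_one] at this
  refine PronormalOdd.pron_of_normalizer hSK fun n hn => ?_
  rw [hSeq] at hn
  obtain ⟨s, hs, g, hg, rfl⟩ := normalizer_Smon h2 hk _ (neg_one_mem_sylow Q) (two_lt_card_sylow hodd Q) T hn
  have hgN : g ∈ Subgroup.normalizer ((Q : Subgroup SL(2, F)) : Set SL(2, F)) :=
    Subgroup.mem_normalizer_fintype fun q hq => hg q hq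
  have hn' : cj (s * cst g) K = cj (cst g) K := by
    have hg' : ∀ q ∈ (Q : Subgroup SL(2, F)), g⁻¹ * q * g⁻¹⁻¹ ∈ (Q : Subgroup SL(2, F)) :=
      fun q hq => (Subgroup.mem_normalizer_iff.mp (inv_mem hgN) q).mp hq
    have hs' : (cst g⁻¹ : GU ι F) * s * (cst g⁻¹)⁻¹ ∈ K := hSK (hSeq ▸ cst_normalizes hg' hs)
    rw [show s * cst g = cst g * (cst g⁻¹ * s * (cst g⁻¹)⁻¹) by rw [map_inv]; group, ← cj_cj, cj_mem hs']
  rw [hn']
  obtain ⟨a', ha', b, hb, hab, hak, hbo⟩ := PronormalOdd.exists_pp'_decomp (p := 2) g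
  have hle := Subgroup.zpowers_le.mpr hgN
  have haQ : a' ∈ (Q : Subgroup SL(2, F)) := PronormalOdd.mem_sylow_of_normalizes Q (hle ha') hak
  have hcomm : a' * b = b * a' := by
    obtain ⟨x, rfl⟩ := Subgroup.mem_zpowers_iff.mp ha'
    obtain ⟨y, rfl⟩ := Subgroup.mem_zpowers_iff.mp hb
    exact (Commute.zpow_zpow_self g x y).eq
  rw [hab, hcomm, map_mul, ← cj_cj, cj_mem (hSK (hSeq ▸ diag_mem_Smon fun _ => haQ))]
  by_cases h8 : Nat.card F % 8 = 1 ∨ Nat.card F % 8 = 7
  · refine ⟨1, one_mem _, ?_⟩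
    have hbQ : b ∈ (Q : Subgroup SL(2, F)) := by
      have := hle hb
      rwa [(S2431.result (by rwa [← Nat.card_eq_fintype_card]) Q).2.1
        (by rwa [← Nat.card_eq_fintype_card])] at this
    rw [cj_one, cj_mem (hSK (hSeq ▸ diag_mem_Smon fun _ => hbQ))]
  · obtain ⟨i, j, G8⟩ := exists_gen8 hodd (by obtain ⟨m, hm⟩ := hodd; omega) Q
    exact pron_core hodd hk Q G8 T S hSeq hSK (hle hb) (Nat.coprime_two_right.mp hbo)

end

end Cfsg.Agent.PronSymp
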