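/-
Pronormality of the subgroups of index prime to `p` passes to products of groups whose Sylow normalisers are
commutative modulo the Sylow subgroup.

* `allPron_pi`
-/
import Cfsg.Agent.Lib.PronormalOdd.Crit

set_option autoImplicit false

namespace Cfsg.Agent.PronSymp

open Cfsg.Agent.S4270

theorem allPron_pi {κ : Type} [Fintype κ] [DecidableEq κ] {G : κ → Type*} [∀ i, Group (G i)]
    [∀ i, Finite (G i)] {p : ℕ} [Fact p.Prime] (P : ∀ i, Sylow p (G i))
    (hab : ∀ i, ∀ n ∈ Subgroup.normalizer ((P i : Subgroup (G i)) : Set (G i)),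
      ∀ n' ∈ Subgroup.normalizer ((P i : Subgroup (G i)) : Set (G i)), n * n' * n⁻¹ * n'⁻¹ ∈ (P i : Subgroup (G i)))
    (h : ∀ i, PronormalOdd.AllPron p (G i)) : PronormalOdd.AllPron p (∀ i, G i) := by
  classical
  set S₀ : Subgroup (∀ i, G i) := Subgroup.pi Set.univ fun i => (P i : Subgroup (G i)) with hS₀
  have hmemS : ∀ {x : ∀ i, G i}, x ∈ S₀ ↔ ∀ i, x i ∈ (P i : Subgroup (G i)) := by
    intro x; simp [hS₀, Subgroup.mem_pi]
  have hcardS : Nat.card S₀ = ∏ i, Nat.card (P i : Subgroup (G i)) := by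
    rw [← Nat.card_pi]
    exact Nat.card_congr
      { toFun := fun x i => ⟨(x : ∀ i, G i) i, hmemS.mp x.2 i⟩
        invFun := fun y => ⟨fun i => y i, hmemS.mpr fun i => (y i).2⟩
        left_inv := fun x => rfl
        right_inv := fun y => rfl }
  have hidx : S₀.index = ∏ i, (P i : Subgroup (G i)).index := by
    have h1 := S₀.card_mul_index
    rw [hcardS, Nat.card_pi,
      show ∏ i, Nat.card (G i) = ∏ i, (Nat.card (P i : Subgroup (G i)) * (P i : Subgroup (G i)).index) from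
        Finset.prod_congr rfl fun i _ => ((P i : Subgroup (G i)).card_mul_index).symm,
      Finset.prod_mul_distrib] at h1
    exact Nat.eq_of_mul_eq_mul_left (Finset.prod_pos fun i _ => Nat.card_pos) h1
  have hS₀p : IsPGroup p S₀ := by
    rw [IsPGroup.iff_card, hcardS]
    choose n hn using fun i => (P i).isPGroup'.exists_card_eq
    exact ⟨∑ i, n i, by rw [← Finset.prod_pow_eq_pow_sum]; exact Finset.prod_congr rfl fun i _ => hn i⟩
  have hS₀i : ¬ p ∣ S₀.index := by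
    rw [hidx, (Nat.Prime.prime Fact.out).dvd_finsetProd_iff]
    rintro ⟨i, -, hi⟩
    exact (P i).not_dvd_index hi
  set S : Sylow p (∀ i, G i) := hS₀p.toSylow hS₀i with hS
  have hSval : (S : Subgroup (∀ i, G i)) = S₀ := rfl
  intro K₀ hK₀
  obtain ⟨P', hP'⟩ := (exists_sylow_le_iff K₀).mpr hK₀
  obtain ⟨a, rfl⟩ := MulAction.exists_smul_eq (∀ i, G i) S P'
  set K := cj a⁻¹ K₀ with hKdef
  have hSK : (S : Subgroup (∀ i, G i)) ≤ K := by
    have := cj_mono a⁻¹ (show cj a (S : Subgroup (∀ i, G i)) ≤ K₀ from hP')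
    rwa [cj_cj, inv_mul_cancel, cj_one] at this
  suffices hpr : Cfsg.IsPronormal K by
    have := PronormalOdd.pron_cj a hpr
    rwa [hKdef, cj_cj, mul_inv_cancel, cj_one] at this
  refine PronormalOdd.pron_of_normalizer hSK fun n hn => ?_
  -- the components
  set B : ∀ i, Subgroup (G i) := fun i => K.comap (MonoidHom.mulSingle G i) with hB
  have hPB : ∀ i, (P i : Subgroup (G i)) ≤ B i := fun i g hg => hSK (by
    rw [hSval, hmemS]
    intro l
    by_cases hl : l = i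
    · subst hl; simpa using hg
    · show (Pi.mulSingle i g : ∀ j, G j) l ∈ _
      rw [Pi.mulSingle_eq_of_ne hl]; exact one_mem _)
  have hBK : ∀ x : ∀ i, G i, (∀ i, x i ∈ B i) → x ∈ K := fun x hx =>
    Subgroup.pi_mem_of_mulSingle_mem x fun i => hx i
  have hKB : ∀ k ∈ K, ∀ i, cj (k i) (B i) ≤ B i := by
    rintro k hk i _ ⟨g, hg, rfl⟩
    show (Pi.mulSingle i (k i * g * (k i)⁻¹) : ∀ j, G j) ∈ K
    have e : (Pi.mulSingle i (k i * g * (k i)⁻¹) : ∀ j, G j) = k * Pi.mulSingle i g * k⁻¹ := by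
      funext l
      by_cases hl : l = i
      · subst hl; simp
      · simp [Pi.mulSingle_eq_of_ne hl]
    rw [e]
    exact mul_mem (mul_mem hk hg) (inv_mem hk)
  have hPi : ∀ {m : ∀ i, G i}, m ∈ Subgroup.normalizer ((S : Subgroup (∀ i, G i)) : Set (∀ i, G i)) →
      ∀ i, m i ∈ Subgroup.normalizer ((P i : Subgroup (G i)) : Set (G i)) := by
    intro m hm i
    refine cj_self_iff.mp (Subgroup.eq_of_le_of_card_ge ?_
      (Subgroup.card_map_of_injective (MulAut.conj _).injective).ge)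
    rintro _ ⟨g, hg, rfl⟩
    have hs : (Pi.mulSingle i g : ∀ j, G j) ∈ S₀ := hmemS.mpr fun l => by
      by_cases hl : l = i
      · subst hl; rw [Pi.mulSingle_eq_same]; exact hg
      · rw [Pi.mulSingle_eq_of_ne hl]; exact one_mem _
    have h1 := hmemS.mp ((Subgroup.mem_normalizer_iff.mp hm _).mp hs) i
    simpa using h1
  have hx : ∀ i, ∃ x : G i, x ∈ B i ⊔ cj (n i) (B i) ∧ cj (n i) (B i) = cj x (B i) ∧
      x ∈ Subgroup.normalizer ((P i : Subgroup (G i)) : Set (G i)) := by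
    intro i
    obtain ⟨x, hx, he⟩ := h i (B i) ((exists_sylow_le_iff _).mp ⟨P i, hPB i⟩) (n i)
    change cj (n i) (B i) = cj x (B i) at he
    change x ∈ B i ⊔ cj (n i) (B i) at hx
    have h1 : (P i : Subgroup (G i)) ≤ cj x (B i) := by
      rw [← he, ← cj_self_iff.mpr (hPi hn i)]
      exact cj_mono _ (hPB i)
    obtain ⟨y, hy, hye⟩ := sylow_conj_in (P i) x h1 (cj_mono x (hPB i))
    refine ⟨y⁻¹ * x, mul_mem (inv_mem ?_) hx, ?_, cj_self_iff.mp ?_⟩
    · exact Subgroup.mem_sup_right (he ▸ hy)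
    · rw [← cj_cj, cj_mem (inv_mem hy), he]
    · rw [← cj_cj, ← hye, cj_cj, inv_mul_cancel, cj_one]
  choose x hxm hxe hxN using hx
  have hxK : x ∈ K ⊔ cj n K := by
    refine Subgroup.pi_mem_of_mulSingle_mem x fun i => ?_
    have hle : B i ⊔ cj (n i) (B i) ≤ (K ⊔ cj n K).comap (MonoidHom.mulSingle G i) := by
      refine sup_le (Subgroup.comap_mono le_sup_left) ?_
      rintro _ ⟨g, hg, rfl⟩
      refine Subgroup.mem_sup_right ⟨_, hg, ?_⟩
      funext l
      by_cases hl : l = i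
      · subst hl; simp
      · simp [Pi.mulSingle_eq_of_ne hl]
    exact hle (hxm i)
  refine ⟨x, hxK, (Subgroup.eq_of_le_of_card_ge ?_ ?_).symm⟩
  swap
  · exact ((Subgroup.card_map_of_injective (MulAut.conj n).injective).trans
      (Subgroup.card_map_of_injective (MulAut.conj x).injective).symm).le
  rintro _ ⟨k, hk, rfl⟩
  show x * k * x⁻¹ ∈ cj n K
  -- Frattini in each component
  have hb : ∀ i, ∃ b ∈ B i, b⁻¹ * k i ∈ Subgroup.normalizer ((P i : Subgroup (G i)) : Set (G i)) := by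
    intro i
    obtain ⟨b, hb, he⟩ := sylow_conj_in (P i) (k i) (hPB i) ((cj_mono _ (hPB i)).trans (hKB k hk i))
    exact ⟨b, hb, cj_self_iff.mp (by rw [← cj_cj, ← he, cj_cj, inv_mul_cancel, cj_one])⟩
  choose b hbB hbN using hb
  set l : ∀ i, G i := b⁻¹ * k with hl
  have hlK : l ∈ K := mul_mem (inv_mem (hBK b hbB)) hk
  have e1 : x * b * x⁻¹ ∈ cj n K := by
    rw [mem_cj]
    refine hBK _ fun i => ?_
    have : x i * b i * (x i)⁻¹ ∈ cj (n i) (B i) := hxe i ▸ ⟨b i, hbB i, rfl⟩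
    exact mem_cj.mp this
  have e2 : (x * l * x⁻¹) * (n * l * n⁻¹)⁻¹ ∈ cj n K := by
    rw [mem_cj]
    refine hSK ?_
    rw [hSval, hmemS]
    intro i
    have hN := hPi hn i
    have hlN : l i ∈ Subgroup.normalizer ((P i : Subgroup (G i)) : Set (G i)) := hbN i
    have c1 := hab i (x i) (hxN i) (l i) hlN
    have c2 := hab i (n i) hN (l i) hlN
    have c3 : x i * l i * (x i)⁻¹ * (n i * l i * (n i)⁻¹)⁻¹ ∈ (P i : Subgroup (G i)) := by
      rw [show x i * l i * (x i)⁻¹ * (n i * l i * (n i)⁻¹)⁻¹ =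
        (x i * l i * (x i)⁻¹ * (l i)⁻¹) * (n i * l i * (n i)⁻¹ * (l i)⁻¹)⁻¹ by group]
      exact mul_mem c1 (inv_mem c2)
    have := ((Subgroup.mem_normalizer_iff''.mp hN) _).mp c3
    simpa using this
  have e3 : n * l * n⁻¹ ∈ cj n K := ⟨l, hlK, rfl⟩
  have hk' : x * k * x⁻¹ = (x * b * x⁻¹) * (((x * l * x⁻¹) * (n * l * n⁻¹)⁻¹) * (n * l * n⁻¹)) := by
    rw [hl]; group
  rw [hk']
  exact mul_mem e1 (mul_mem e2 e3)

end Cfsg.Agent.PronSymp
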