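/-
`Sp_2m(F)` as the quaternionic unitary group, and the result for products.

* `equivSp`
* `exists_sylow_GU`
* `allPron_pi_Sp`
-/
import Cfsg.Agent.Lib.PronSymp.Fusion
import Cfsg.Agent.Lib.PronSymp.Product
import Cfsg.Agent.Lib.SympSylowTwo.Monomial

set_option autoImplicit false
set_option linter.unusedSectionVars false

namespace Cfsg.Agent.PronSymp

open Matrix
open scoped MatrixGroups

variable {F : Type*} [Field F] {m : ℕ}

/-- Forgetting the block structure. -/
def flat (X : Matrix (Fin m) (Fin m) (M2 F)) : Matrix (Fin m ⊕ Fin m) (Fin m ⊕ Fin m) F :=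
  fromBlocks (Matrix.of fun k l => X k l 0 0) (Matrix.of fun k l => X k l 0 1)
    (Matrix.of fun k l => X k l 1 0) (Matrix.of fun k l => X k l 1 1)

/-- Restoring the block structure. -/
def unflat (A : Matrix (Fin m ⊕ Fin m) (Fin m ⊕ Fin m) F) : Matrix (Fin m) (Fin m) (M2 F) :=
  Matrix.of fun k l => !![A (.inl k) (.inl l), A (.inl k) (.inr l); A (.inr k) (.inl l), A (.inr k) (.inr l)]

theorem flat_unflat (A : Matrix (Fin m ⊕ Fin m) (Fin m ⊕ Fin m) F) : flat (unflat A) = A := by
  refine Matrix.ext fun k l => ?_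
  rcases k with k | k <;> rcases l with l | l <;> simp [flat, unflat]

theorem unflat_flat (X : Matrix (Fin m) (Fin m) (M2 F)) : unflat (flat X) = X := by
  refine Matrix.ext fun k l => Matrix.ext fun a b => ?_
  fin_cases a <;> fin_cases b <;> simp [flat, unflat]

theorem flat_injective : Function.Injective (flat : Matrix (Fin m) (Fin m) (M2 F) → _) :=
  Function.LeftInverse.injective unflat_flat

theorem flat_mul (X Y : Matrix (Fin m) (Fin m) (M2 F)) : flat (X * Y) = flat X * flat Y := by
  refine Matrix.ext fun k l => ?_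
  rcases k with k | k <;> rcases l with l | l <;>
    simp [flat, fromBlocks_multiply, Matrix.mul_apply, Matrix.sum_apply, Fin.sum_univ_two, Finset.sum_add_distrib]

theorem flat_one : flat (1 : Matrix (Fin m) (Fin m) (M2 F)) = 1 := by
  refine Matrix.ext fun k l => ?_
  rcases k with k | k <;> rcases l with l | l <;> by_cases h : k = l <;>
    first | (subst h; simp [flat]) | simp [flat, h]

theorem flat_hT (X : Matrix (Fin m) (Fin m) (M2 F)) :
    flat (hT X) = -(Matrix.J (Fin m) F * (flat X)ᵀ * Matrix.J (Fin m) F) := by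
  simp only [flat, Matrix.J, fromBlocks_transpose, fromBlocks_multiply, fromBlocks_neg, Matrix.zero_mul,
    Matrix.mul_zero, Matrix.one_mul, Matrix.mul_one, Matrix.neg_mul, Matrix.mul_neg, zero_add, add_zero, neg_neg]
  congr 1

theorem mem_symplectic_of_unitary {X : Matrix (Fin m) (Fin m) (M2 F)} (h : X * hT X = 1) :
    flat X ∈ Matrix.symplecticGroup (Fin m) F := by
  have h' := congrArg flat h
  rw [flat_mul, flat_hT, flat_one, Matrix.mul_neg, ← Matrix.mul_assoc, ← Matrix.mul_assoc,
    ← Matrix.neg_mul] at h'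
  rw [SymplecticGroup.mem_iff]
  have hJ := Matrix.J_squared (l := Fin m) (R := F)
  have e := congrArg (· * (Matrix.J (Fin m) F)) h'
  simp only [Matrix.mul_assoc, Matrix.neg_mul, Matrix.one_mul, hJ, Matrix.mul_neg, Matrix.mul_one, neg_neg] at e
  simpa only [Matrix.mul_assoc] using e

theorem unitary_of_mem_symplectic {A : Matrix (Fin m ⊕ Fin m) (Fin m ⊕ Fin m) F}
    (h : A ∈ Matrix.symplecticGroup (Fin m) F) :
    unflat A * hT (unflat A) = 1 ∧ hT (unflat A) * unflat A = 1 := by
  have hJ := Matrix.J_squared (l := Fin m) (R := F)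
  constructor <;> refine flat_injective ?_ <;> rw [flat_mul, flat_hT, flat_unflat, flat_one]
  · have h' := SymplecticGroup.mem_iff.mp h
    rw [Matrix.mul_neg, ← Matrix.mul_assoc, ← Matrix.mul_assoc, h', hJ, neg_neg]
  · have h' := SymplecticGroup.mem_iff'.mp h
    rw [Matrix.neg_mul, Matrix.mul_assoc, Matrix.mul_assoc, ← Matrix.mul_assoc (Aᵀ), h', hJ, neg_neg]

/-- `Sp_2m(F)` is the quaternionic unitary group. -/
def equivSp (m : ℕ) (F : Type*) [Field F] :
    GU (Fin m) F ≃* ↥(Matrix.symplecticGroup (Fin m) F) where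
  toFun g := ⟨flat (mat g), mem_symplectic_of_unitary (mat_mul_hT g)⟩
  invFun A := mkGU (unflat A.1) (unitary_of_mem_symplectic A.2).2 (unitary_of_mem_symplectic A.2).1
  left_inv g := mat_injective (unflat_flat (mat g))
  right_inv A := Subtype.ext (flat_unflat A.1)
  map_mul' g h := Subtype.ext (flat_mul (mat g) (mat h))

theorem exists_sylow_GU [Finite F] [Fact (Nat.Prime 2)] (hodd : Odd (Nat.card F)) (Q : Sylow 2 SL(2, F))
    (T : Sylow 2 (Equiv.Perm (Fin m))) :
    ∃ S : Sylow 2 (GU (Fin m) F),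
      (S : Subgroup (GU (Fin m) F)) = Smon (Q : Subgroup SL(2, F)) (T : Subgroup (Equiv.Perm (Fin m))) := by
  refine ⟨Sylow.ofCard (Smon (Q : Subgroup SL(2, F)) (T : Subgroup (Equiv.Perm (Fin m))))
    ((card_Smon _ _).trans ?_), rfl⟩
  rw [Q.card_eq_multiplicity, T.card_eq_multiplicity, Fintype.card_fin,
    Nat.factorization_def (Nat.card SL(2, F)) Nat.prime_two,
    Nat.factorization_def (Nat.card (Equiv.Perm (Fin m))) Nat.prime_two,
    Nat.factorization_def (Nat.card (GU (Fin m) F)) Nat.prime_two, ← pow_mul, ← pow_add]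
  congr 1
  rw [Nat.card_congr (equivSp m F).toEquiv, SympSylowTwo.padic_card_eq hodd, SympSylowTwo.card_mono,
    padicValNat.mul (pow_ne_zero _ Nat.card_pos.ne') (Nat.factorial_ne_zero m), padicValNat.pow,
    Nat.card_perm, Nat.card_fin, mul_comm]

theorem allPron_pi_Sp {t : ℕ} (m : Fin t → ℕ) (F : Fin t → Type*) [∀ i, Field (F i)] [∀ i, Finite (F i)]
    [Fact (Nat.Prime 2)] (hm : ∀ i, ∃ k : ℕ, m i = 2 ^ k) (hodd : ∀ i, Odd (Nat.card (F i))) :
    PronormalOdd.AllPron 2 (∀ i, ↥(Matrix.symplecticGroup (Fin (m i)) (F i))) := by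
  classical
  choose k hk using hm
  have hcard : ∀ i, Fintype.card (Fin (m i)) = 2 ^ k i := fun i => by rw [Fintype.card_fin, hk]
  let Q : ∀ i, Sylow 2 SL(2, F i) := fun i => default
  let T : ∀ i, Sylow 2 (Equiv.Perm (Fin (m i))) := fun i => default
  choose S hS using fun i => exists_sylow_GU (hodd i) (Q i) (T i)
  have h := allPron_pi S (fun i n hn n' hn' => by
      rw [hS i] at hn hn' ⊢
      exact comm_normalizer_Smon (hodd i) (hcard i) (Q i) (T i) hn hn')
    fun i => allPron_GU (hodd i) (hcard i) (Q i) (T i) (S i) (hS i)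
  exact PronormalOdd.pron_of_surjective
    (f := (MulEquiv.piCongrRight fun i => equivSp (m i) (F i)).toMonoidHom)
    (MulEquiv.surjective _) h

end Cfsg.Agent.PronSymp
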